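import Cfsg.Agent.Lib.Spor.MTwelve.CentShape.Classify
import Cfsg.Agent.Lib.Spor.MTwelve.Fusion

/-!
The shape of the involution centraliser in the hypotheses of the recognition theorem: the model of the centraliser in the
Mathieu group of degree twelve, or the second shape with exchanged quaternion groups.
-/

set_option autoImplicit false
set_option linter.style.haveILetI false

namespace Cfsg.Agent.MTwelve.CentShape

open Cfsg.Agent.MTwelve.OrderFront

universe u

variable {G : Type u} [Group G] [Finite G]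

/-- A parametrisation of a centraliser and of its two-core by normal forms. -/
structure Shape {z : G} (K : Core z) {sw eps : Bool} (D : Gens sw eps G) : Prop where
  z_eq : D.z = z
  inj : Function.Injective D.ev
  mem_cent : ∀ g, g ∈ Subgroup.centralizer ({z} : Set G) ↔ ∃ X, D.ev X = g
  mem_core : ∀ x, x ∈ K.Q ↔ ∃ q, D.eq q = x

theorem exists_shape {z : G} (K : Core z) (hyp : K.Six) (hex : Cfsg.IsExtraspecial 2 ↥K.Q) :
    ∃ (sw eps : Bool) (D : Gens sw eps G), Shape K D := by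
  obtain ⟨v, t, hp⟩ := K.exists_pair hyp
  obtain ⟨sw, eps, D, hDz, hDv, hDt, hDi, hDi'⟩ := exists_gens K hyp hex hp
  set L := Subgroup.centralizer ({z} : Set G) with hL
  have hmemQ : ∀ q, D.eq q ∈ K.Q := D.eq_mem hDi hDi' (hDz ▸ K.z_mem) (fun x hx => by rw [hDv]; exact K.vQ hp hx)
  have hmemL : ∀ X, D.ev X ∈ L := by
    rintro ⟨q, m, l⟩
    refine mul_mem (K.Q_le (hmemQ q)) (mul_mem (pow_mem (hDv ▸ hp.v_mem) _) ?_)
    cases l
    · exact one_mem _
    · exact hDt ▸ hp.t_mem
  set b := K.π ⟨v, hp.v_mem⟩ with hb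
  set c := K.π ⟨t, hp.t_mem⟩ with hc
  have hb1 : b ≠ 1 := fun e => K.v_not_mem hyp hp.order (K.mem_Q.2 ⟨hp.v_mem, e⟩)
  have hc1 : c ≠ 1 := fun e => hp.not_mem (K.mem_Q.2 ⟨hp.t_mem, e⟩)
  have hb3 : b * b * b = 1 := by
    rw [hb, ← map_mul, ← map_mul, ← map_one K.π]
    exact congrArg _ (Subtype.ext (by show v * v * v = 1; rw [← pow_three']; exact K.v_cube hp))
  have hc2 : c * c = 1 := by
    refine perm_three_sq _ ?_
    rw [hc, ← map_pow, ← map_one K.π]
    exact congrArg _ (Subtype.ext (by simpa using hp.pow))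
  have himg : ∀ X : El, K.π ⟨D.ev X, hmemL X⟩ = b ^ X.2.1.val * cond X.2.2 c 1 := by
    rintro ⟨q, m, l⟩
    have h1 : K.π ⟨D.eq q, K.Q_le (hmemQ q)⟩ = 1 := (K.mem_Q.1 (hmemQ q)).2
    cases l with
    | false =>
      rw [show (⟨D.ev (q, m, false), hmemL _⟩ : L) = ⟨D.eq q, K.Q_le (hmemQ q)⟩ * ⟨v, hp.v_mem⟩ ^ m.val from
        Subtype.ext (by simp [Gens.ev, hDv]), map_mul, map_pow, h1, one_mul]
      exact (mul_one _).symm
    | true =>
      rw [show (⟨D.ev (q, m, true), hmemL _⟩ : L) = ⟨D.eq q, K.Q_le (hmemQ q)⟩ *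
        (⟨v, hp.v_mem⟩ ^ m.val * ⟨t, hp.t_mem⟩) from Subtype.ext (by simp [Gens.ev, hDv, hDt]), map_mul, map_mul,
        map_pow, h1, one_mul]
      rfl
  have key : ∀ b c : Equiv.Perm (Fin 3), b * b * b = 1 → c * c = 1 → b ≠ 1 → c ≠ 1 →
      ∀ (m n : Fin 3) (l l2 : Bool), b ^ m.val * cond l c 1 = b ^ n.val * cond l2 c 1 → m = n ∧ l = l2 := by
    decide +kernel
  have hinj : Function.Injective D.ev := by
    rintro ⟨x, m, l⟩ ⟨y, n, l2⟩ h
    obtain ⟨rfl, rfl⟩ := key b c hb3 hc2 hb1 hc1 m n l l2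
      ((himg (x, m, l)).symm.trans ((congrArg K.π (Subtype.ext h)).trans (himg (y, n, l2))))
    have : D.eq x = D.eq y := mul_right_cancel h
    rw [D.eq_injective this]
  refine ⟨sw, eps, D, hDz, hinj, fun g => ⟨fun hg => ?_, fun ⟨X, hX⟩ => hX ▸ hmemL X⟩,
    fun x => ⟨D.eq_cover K.card_Q hmemQ, fun ⟨q, hq⟩ => hq ▸ hmemQ q⟩⟩
  have hb : Function.Bijective fun X => (⟨D.ev X, hmemL X⟩ : L) :=
    (Nat.bijective_iff_injective_and_card _).2
      ⟨fun X Y h => hinj (congrArg Subtype.val h), Gens.card_el.trans K.card_cent.symm⟩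
  obtain ⟨X, hX⟩ := hb.2 ⟨g, hg⟩
  exact ⟨X, congrArg Subtype.val hX⟩

theorem Shape.eps_false {z : G} {K : Core z} {sw eps : Bool} {D : Gens sw eps G} (S : Shape K D)
    (hyp : K.Six) (hnwc : ∃ g : G, g * z * g⁻¹ ∈ K.Q ∧ g * z * g⁻¹ ≠ z) : eps = false := by
  by_contra he
  rw [Bool.not_eq_false] at he
  subst he
  obtain ⟨g, hwQ, hwz⟩ := hnwc
  obtain ⟨qw, hqw⟩ := (S.mem_core _).1 hwQ
  have hinv : ∀ x ∈ Subgroup.centralizer ({z} : Set G), x * x = 1 → x ∈ K.Q := by
    intro x hx hxx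
    obtain ⟨X, rfl⟩ := (S.mem_cent x).1 hx
    rw [D.ev_mul, ← D.ev_e1] at hxx
    have h := invol_inner sw X (S.inj hxx)
    exact (S.mem_core _).2 ⟨X.1, by rw [← D.ev_inl, show inl X.1 = X from Prod.ext rfl h.symm]⟩
  have hww : g * z * g⁻¹ * (g * z * g⁻¹) = 1 := by
    rw [show g * z * g⁻¹ * (g * z * g⁻¹) = g * (z * z) * g⁻¹ by group, K.zz]; group
  have hq2 : qmul qw qw = q1 := D.eq_injective (by rw [← D.eq_mul, hqw, hww, D.eq_q1])
  have hq1 : qw ≠ q1 := by
    rintro rfl
    rw [D.eq_q1] at hqw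
    exact K.z_ne (conj_eq_one_iff.1 hqw.symm)
  have hqz : qw ≠ qz := by
    rintro rfl
    rw [D.eq_qz, S.z_eq] at hqw
    exact hwz hqw.symm
  obtain ⟨a, b, ha, -, hb, -, haw, hbw, hab⟩ := two_invols qw hq2 hq1 hqz
  -- the two involutions lie in the conjugate two-core
  have hconj : ∀ q, qmul q q = q1 → qmul q qw = qmul qw q → g⁻¹ * D.eq q * g ∈ K.Q := by
    intro q h1 h2
    refine hinv _ (Subgroup.mem_centralizer_singleton_iff.2 ?_) ?_
    · have h := congrArg D.eq h2
      rw [← D.eq_mul, ← D.eq_mul, hqw] at h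
      calc g⁻¹ * D.eq q * g * z = g⁻¹ * (D.eq q * (g * z * g⁻¹)) * g := by group
        _ = g⁻¹ * (g * z * g⁻¹ * D.eq q) * g := by rw [h]
        _ = z * (g⁻¹ * D.eq q * g) := by group
    · rw [show g⁻¹ * D.eq q * g * (g⁻¹ * D.eq q * g) = g⁻¹ * (D.eq q * D.eq q) * g by group, D.eq_mul, h1, D.eq_q1]
      group
  obtain ⟨qa, hqa⟩ := (S.mem_core _).1 (hconj a ha haw)
  obtain ⟨qb, hqb⟩ := (S.mem_core _).1 (hconj b hb hbw)
  have key : ∀ p q : Q5, qmul p q = qmul q p ∨ qmul p q = qmul qz (qmul q p) := by decide +kernel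
  have hab' : D.eq a * D.eq b = z * (D.eq b * D.eq a) := by
    rw [D.eq_mul, hab, ← D.eq_mul, ← D.eq_mul, D.eq_qz, S.z_eq]
  have hexp : g⁻¹ * D.eq a * g * (g⁻¹ * D.eq b * g) =
      g⁻¹ * z * g * (g⁻¹ * D.eq b * g * (g⁻¹ * D.eq a * g)) := by
    calc g⁻¹ * D.eq a * g * (g⁻¹ * D.eq b * g) = g⁻¹ * (D.eq a * D.eq b) * g := by group
      _ = _ := by rw [hab']; group
  rw [← hqa, ← hqb, D.eq_mul, D.eq_mul] at hexp
  rcases key qa qb with h | h <;> rw [h] at hexp
  · refine K.z_ne ?_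
    calc z = g * (g⁻¹ * z * g) * g⁻¹ := by group
      _ = 1 := by rw [mul_eq_right.1 hexp.symm]; group
  · rw [← D.eq_mul, D.eq_qz, S.z_eq] at hexp
    have e : z = g⁻¹ * z * g := mul_right_cancel hexp
    apply hwz
    calc g * z * g⁻¹ = g * (g⁻¹ * z * g) * g⁻¹ := by rw [← e]
      _ = z := by group

/-- the generators of the model -/
def c0Gens : Gens false false C0 where
  z := C0.z0
  i := C0.el 78
  i' := C0.el 111
  v := C0.el 44
  t := C0.el 6
  z_ne := by decide +kernel
  zz := by decide +kernel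
  zi := eq_of_beq (by decide +kernel)
  zi' := eq_of_beq (by decide +kernel)
  zv := eq_of_beq (by decide +kernel)
  zt := eq_of_beq (by decide +kernel)
  ii := by decide +kernel
  ii' := by decide +kernel
  ijk := by decide +kernel
  ijk' := by decide +kernel
  c0 := eq_of_beq (by decide +kernel)
  c1 := eq_of_beq (by decide +kernel)
  c2 := eq_of_beq (by decide +kernel)
  v3 := by decide +kernel
  tvt := by decide +kernel
  tt := by decide +kernel
  ti := by decide +kernel
  ti' := by decide +kernel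

theorem c0Gens_bijective : Function.Bijective c0Gens.ev := by
  refine (Nat.bijective_iff_surjective_and_card _).2 ⟨fun c => ?_, Gens.card_el.trans C0.card.symm⟩
  have h := C0.forall_of_all (p := fun c => decide (∃ X, c0Gens.ev X = c)) (by decide +kernel) c
  exact of_decide_eq_true h

/-- The plain shape gives the setting of the recognition of the Mathieu group of degree twelve. -/
theorem Shape.setup {z : G} {K : Core z} {D : Gens false false G} (S : Shape K D) : Nonempty (MTwelve.Setup G) := by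
  obtain ⟨φ, hφ, hr, hz⟩ := c0Gens.exists_hom D c0Gens_bijective S.inj (H := Subgroup.centralizer ({z} : Set G)) S.mem_cent
  exact ⟨⟨z, φ, hφ, hr, by rw [← S.z_eq]; exact hz⟩⟩

/-- The hypotheses of the recognition theorem give the data used here. -/
theorem core_of_hyps (s : G) (hs : orderOf s = 2) (Q : Subgroup G)
    (hQ : Q = (Cfsg.pCore 2 ↥(Subgroup.centralizer ({s} : Set G))).map (Subgroup.centralizer ({s} : Set G)).subtype)
    (hQcard : Nat.card Q = 32)
    (e : ↥(Subgroup.centralizer ({s} : Set G)) ⧸ Cfsg.pCore 2 ↥(Subgroup.centralizer ({s} : Set G)) ≃*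
      Equiv.Perm (Fin 3))
    (X : Sylow 3 ↥(Subgroup.centralizer ({s} : Set G)))
    (hCQX : Q ⊓ Subgroup.centralizer (((X : Subgroup _).map (Subgroup.centralizer ({s} : Set G)).subtype :
      Subgroup G) : Set G) = Subgroup.zpowers s) :
    ∃ K : Core s, K.Six ∧ K.Q = Q := by
  let L := Subgroup.centralizer ({s} : Set G)
  haveI : Fact (Nat.Prime 3) := ⟨Nat.prime_three⟩
  have hker : (e.toMonoidHom.comp (QuotientGroup.mk' (Cfsg.pCore 2 L))).ker = Cfsg.pCore 2 L := by
    ext x
    simp [MonoidHom.mem_ker]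
  have h192 : Nat.card L = 192 := by
    rw [Subgroup.card_eq_card_quotient_mul_card_subgroup (Cfsg.pCore 2 L), Nat.card_congr e.toEquiv, Nat.card_perm,
      Nat.card_fin]
    have : Nat.card (Cfsg.pCore 2 L) = 32 := by
      rw [← hQcard, hQ, Subgroup.card_map_of_injective L.subtype_injective]
    rw [this]
    rfl
  let K : Core s := ⟨hs, h192, e.toMonoidHom.comp (QuotientGroup.mk' _),
    e.surjective.comp (QuotientGroup.mk'_surjective _)⟩
  have hKQ : K.Q = Q := by rw [hQ, Core.Q, hker]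
  refine ⟨K, fun v hv hvs => ?_, hKQ⟩
  set vL : L := ⟨v, Subgroup.mem_centralizer_singleton_iff.2 hvs⟩
  have hvLo : orderOf vL = 3 := by rw [Subgroup.orderOf_mk, hv]
  -- a conjugate of the given Sylow subgroup
  have hXc : Nat.card X = 3 := by
    rw [X.card_eq_multiplicity, h192, show (192 : ℕ) = 64 * 3 from rfl, Nat.factorization_mul (by norm_num) (by norm_num),
      Finsupp.add_apply, Nat.prime_three.factorization_self,
      Nat.factorization_eq_zero_of_not_dvd (by norm_num : ¬ 3 ∣ 64)]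
    norm_num
  obtain ⟨T, hT⟩ := (IsPGroup.of_card (n := 1) (by rw [Nat.card_zpowers, hvLo, pow_one]) :
    IsPGroup 3 (Subgroup.zpowers vL)).exists_le_sylow
  obtain ⟨g, hg⟩ := MulAction.exists_smul_eq L X T
  have hTeq : Subgroup.zpowers vL = (T : Subgroup L) := Subgroup.eq_of_le_of_card_ge hT
    (by rw [T.card_eq_multiplicity, ← X.card_eq_multiplicity, hXc, Nat.card_zpowers, hvLo])
  have hfix : ∀ q ∈ Q, q * v = v * q → q = 1 ∨ q = s := by
    intro q hq hc
    have hmem : (g : G)⁻¹ * q * g ∈ Q := by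
      rw [← hKQ] at hq ⊢
      simpa using K.conj_mem (inv_mem g.2) hq
    have hcent : (g : G)⁻¹ * q * g ∈ Q ⊓ Subgroup.centralizer (((X : Subgroup L).map L.subtype : Subgroup G) : Set G) := by
      refine ⟨hmem, Subgroup.mem_centralizer_iff.2 ?_⟩
      rintro _ ⟨x, hx, rfl⟩
      have hx' : g * x * g⁻¹ ∈ (T : Subgroup L) := by
        rw [← hg]
        exact ⟨x, hx, rfl⟩
      rw [← hTeq] at hx'
      obtain ⟨k, hk⟩ := Subgroup.mem_zpowers_iff.1 hx'
      have hcq : Commute q ((vL : G) ^ k) := (show Commute q v from hc).zpow_right k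
      have hk' : (vL : G) ^ k = g * x * (g : G)⁻¹ := by simpa using congrArg Subtype.val hk
      rw [hk'] at hcq
      show (x : G) * ((g : G)⁻¹ * q * g) = (g : G)⁻¹ * q * g * x
      calc (x : G) * ((g : G)⁻¹ * q * g) = (g : G)⁻¹ * ((g : G) * x * (g : G)⁻¹ * q) * g := by group
        _ = (g : G)⁻¹ * (q * ((g : G) * x * (g : G)⁻¹)) * g := by rw [hcq.eq]
        _ = (g : G)⁻¹ * q * g * x := by group
    rw [hCQX] at hcent
    rcases zpowers_two hs hcent with h | h
    · left
      calc q = (g : G) * ((g : G)⁻¹ * q * g) * (g : G)⁻¹ := by group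
        _ = 1 := by rw [h]; group
    · right
      calc q = (g : G) * ((g : G)⁻¹ * q * g) * (g : G)⁻¹ := by group
        _ = s := by rw [h, Subgroup.mem_centralizer_singleton_iff.1 g.2, mul_inv_cancel_right]
  -- the centraliser of the element of order three
  set C := L ⊓ Subgroup.centralizer ({v} : Set G)
  have hvC : v ∈ C := ⟨Subgroup.mem_centralizer_singleton_iff.2 hvs, Subgroup.mem_centralizer_singleton_iff.2 rfl⟩
  have hsC : s ∈ C := ⟨Subgroup.mem_centralizer_singleton_iff.2 rfl, Subgroup.mem_centralizer_singleton_iff.2 hvs.symm⟩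
  let f : C →* Equiv.Perm (Fin 3) := K.π.comp (Subgroup.inclusion inf_le_left)
  have hkerc : Nat.card f.ker ≤ 2 := by
    calc Nat.card f.ker ≤ Nat.card (Subgroup.zpowers s) :=
          Nat.card_le_card_of_injective (fun c => (⟨((c : C) : G), by
            have hq : ((c : C) : G) ∈ Q := hKQ ▸ K.mem_Q.2 ⟨(c : C).2.1, c.2⟩
            rcases hfix _ hq (Subgroup.mem_centralizer_singleton_iff.1 (c : C).2.2) with h | h <;> rw [h]
            exacts [one_mem _, Subgroup.mem_zpowers _]⟩ : Subgroup.zpowers s))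
            fun a b h => Subtype.ext (Subtype.ext (congrArg Subtype.val h :))
      _ = 2 := by rw [Nat.card_zpowers, hs]
  have hrange : Nat.card f.range ≤ 3 := by
    have key : ∀ b : Equiv.Perm (Fin 3), b * b * b = 1 → b ≠ 1 →
        (Finset.univ.filter fun a => a * b = b * a).card ≤ 3 := by decide +kernel
    set b := f ⟨v, hvC⟩ with hb
    have hb3 : b * b * b = 1 := by
      rw [hb, ← map_mul, ← map_mul, ← map_one f]
      exact congrArg _ (Subtype.ext (by show v * v * v = 1; rw [← pow_three', ← hv, pow_orderOf_eq_one]))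
    have hb1 : b ≠ 1 := fun e => by
      have hq : v ∈ K.Q := K.mem_Q.2 ⟨hvC.1, e⟩
      have h3 := K.Q.orderOf_dvd_natCard hq
      rw [K.card_Q, hv] at h3
      omega
    refine le_trans ?_ (key b hb3 hb1)
    rw [← Nat.card_eq_finsetCard]
    refine Nat.card_le_card_of_injective (fun a => (⟨a.1, Finset.mem_filter.2 ⟨Finset.mem_univ _, ?_⟩⟩ :
      (Finset.univ.filter fun a => a * b = b * a : Finset _))) fun a c h => Subtype.ext (congrArg
        (fun q : ((Finset.univ.filter fun a => a * b = b * a : Finset _)) => (q : Equiv.Perm (Fin 3))) h)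
    obtain ⟨c, hc⟩ := a.2
    rw [← hc, hb, ← map_mul, ← map_mul]
    exact congrArg _ (Subtype.ext (Subgroup.mem_centralizer_singleton_iff.1 c.2.2))
  have hcard := Subgroup.card_mul_index f.ker
  rw [Subgroup.index_ker] at hcard
  have h2 : 2 ∣ Nat.card C := hs ▸ C.orderOf_dvd_natCard hsC
  have h3 : 3 ∣ Nat.card C := hv ▸ C.orderOf_dvd_natCard hvC
  have hle : Nat.card f.ker * Nat.card f.range ≤ 2 * 3 := Nat.mul_le_mul hkerc hrange
  have : 0 < Nat.card C := Nat.card_pos
  omega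

/-- In the hypotheses of the recognition theorem the centraliser is the model or has the exchanged shape. -/
theorem classify_cent (s : G) (hs : orderOf s = 2) (Q : Subgroup G)
    (hQ : Q = (Cfsg.pCore 2 ↥(Subgroup.centralizer ({s} : Set G))).map (Subgroup.centralizer ({s} : Set G)).subtype)
    (hQex : Cfsg.IsExtraspecial 2 Q) (hQcard : Nat.card Q = 32)
    (e : ↥(Subgroup.centralizer ({s} : Set G)) ⧸ Cfsg.pCore 2 ↥(Subgroup.centralizer ({s} : Set G)) ≃*
      Equiv.Perm (Fin 3))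
    (X : Sylow 3 ↥(Subgroup.centralizer ({s} : Set G)))
    (hCQX : Q ⊓ Subgroup.centralizer (((X : Subgroup _).map (Subgroup.centralizer ({s} : Set G)).subtype :
      Subgroup G) : Set G) = Subgroup.zpowers s)
    (hnwc : ∃ g : G, g * s * g⁻¹ ∈ Q ∧ g * s * g⁻¹ ≠ s) :
    ∃ K : Core s, K.Six ∧ K.Q = Q ∧
      ((∃ D : Gens false false G, Shape K D ∧ Nonempty (MTwelve.Setup G)) ∨ ∃ D : Gens true false G, Shape K D) := by
  obtain ⟨K, hK, rfl⟩ := core_of_hyps s hs Q hQ hQcard e X hCQX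
  obtain ⟨sw, eps, D, S⟩ := exists_shape K hK hQex
  obtain rfl := S.eps_false hK hnwc
  refine ⟨K, hK, rfl, ?_⟩
  cases sw
  · exact Or.inl ⟨D, S, S.setup⟩
  · exact Or.inr ⟨D, S⟩

end Cfsg.Agent.MTwelve.CentShape
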