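import Cfsg.Agent.Lib.Spor.MTwelve.CentShape.Normal

/-!
Finite checks on the normal forms.
-/

set_option autoImplicit false
set_option maxRecDepth 100000

namespace Cfsg.Agent.MTwelve.CentShape

/-- the neutral element of the two-core -/
def q1 : Q5 := (false, 0, 0)

/-- the involution of the two-core -/
def qz : Q5 := (true, 0, 0)

/-- the element in the centre-free position -/
def qi : Q5 := (false, 1, 0)

theorem noncentral : ∀ q : Q5, q ≠ q1 → q ≠ qz → ∃ g : Q5, qmul q g = qmul qz (qmul g q) := by decide +kernel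

theorem qz_mul : ∀ q : Q5, qmul qz q = (!q.1, q.2) := by decide +kernel

theorem qmul_inv : ∀ q : Q5, ∃ q' : Q5, qmul q q' = q1 ∧ ∀ g : Q5, qmul g q' = q1 → g = q := by decide +kernel

theorem square_z : ∀ q : Q5, qmul q q = qz → (q.2.1 ≠ 0 ∧ q.2.2 = 0) ∨ (q.2.1 = 0 ∧ q.2.2 ≠ 0) := by
  decide +kernel

theorem second_factor : ∀ q : Q5, qmul q q = qz → qmul q (false, 1, 0) = qmul (false, 1, 0) q →
    qmul q (false, 3, 0) = qmul (false, 3, 0) q → q.2.1 = 0 ∧ q.2.2 ≠ 0 := by
  decide +kernel

/-- the elements of the whole group coming from the two-core -/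
def inl (q : Q5) : El := (q, 0, false)

theorem emul_inl : ∀ sw eps : Bool, ∀ p q : Q5, emul sw eps (inl p) (inl q) = inl (qmul p q) := by decide +kernel

theorem invol_inner : ∀ sw : Bool, ∀ X : El, emul sw true X X = e1 → X.2 = (0, false) := by decide +kernel

theorem two_invols : ∀ w : Q5, qmul w w = q1 → w ≠ q1 → w ≠ qz →
    ∃ a b : Q5, qmul a a = q1 ∧ a ≠ q1 ∧ qmul b b = q1 ∧ b ≠ q1 ∧ qmul a w = qmul w a ∧ qmul b w = qmul w b ∧
      qmul a b = qmul qz (qmul b a) := by
  decide +kernel

/-- all normal forms, as a finite set -/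
def commSet (sw eps : Bool) (q : Q5) : Finset El :=
  Finset.univ.filter fun X => emul sw eps X (inl q) = emul sw eps (inl q) X

theorem cent_invol_swap : ∀ q : Q5, qmul q q = q1 → q ≠ q1 → q ≠ qz → (commSet true false q).card = 32 := by
  decide +kernel

theorem cent_four_swap : (commSet true false qi).card = 16 := by decide +kernel

theorem four_conj : ∀ q : Q5, qmul q q ≠ q1 →
    ∃ X : El, emul true false X (inl qi) = emul true false (inl q) X := by decide +kernel

theorem count_four : (Finset.univ.filter fun q : Q5 => qmul q q ≠ q1).card = 12 := by decide +kernel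

end Cfsg.Agent.MTwelve.CentShape
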