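import Cfsg.Agent.Lib.Spor.MTwelve.CentShape.Facts
import Cfsg.Agent.Lib.Spor.MTwelve.OrderFront.TwoCore
import Cfsg.Agent.Lib.Solv.ExtraspecialTwo

/-!
An involution centraliser with extraspecial two-core of order thirty-two, quotient the symmetric group of degree three
and an element of order three fixing only the involution in the core has one of four shapes.
-/

set_option autoImplicit false

namespace Cfsg.Agent.MTwelve.CentShape

open Cfsg.Agent.MTwelve.OrderFront

universe u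

variable {G : Type u} [Group G]

/-- exchange the two quaternion groups -/
def Pre.swap (P : Pre G) : Pre G where
  z := P.z
  i := P.i'
  i' := P.i
  v := P.v
  z_ne := P.z_ne
  zz := P.zz
  zi := P.zi'
  zi' := P.zi
  zv := P.zv
  ii := P.ii'
  ii' := P.ii
  ijk := P.ijk'
  ijk' := P.ijk
  c0 := P.c0.symm
  c1 := (P.u_u' 2 1).symm
  c2 := (P.u_u' 3 1).symm
  v3 := P.v3

/-- replace the first unit by another -/
def Pre.move (P : Pre G) (p : Fin 4) (hp : p ≠ 0) : Pre G where
  z := P.z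
  i := P.u p
  i' := P.i'
  v := P.v
  z_ne := P.z_ne
  zz := P.zz
  zi := (P.z_u p).1
  zi' := P.zi'
  zv := P.zv
  ii := by
    rw [P.u_mul]
    fin_cases p
    · exact absurd rfl hp
    all_goals simp [qtab, Pre.sg, show P.u 0 = 1 from rfl]
  ii' := P.ii'
  ijk := by
    have e : P.v * P.u p * P.v⁻¹ = P.u (rot p) := by rw [(P.v_u p).1, mul_inv_cancel_right]
    have e2 : P.v⁻¹ * P.u p * P.v = P.u (rot (rot p)) := by
      have h3 : ∀ p : Fin 4, rot (rot (rot p)) = p := by decide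
      have h := (P.v_u (rot (rot p))).1
      rw [h3] at h
      rw [mul_assoc, ← h, inv_mul_cancel_left]
    rw [e, e2, P.u_mul, mul_assoc, P.u_mul]
    fin_cases p
    · exact absurd rfl hp
    all_goals simp [qtab, rot, Pre.sg, show P.u 0 = 1 from rfl]
  ijk' := P.ijk'
  c0 := P.u_u' p 1
  c1 := P.u_u' p 2
  c2 := P.u_u' p 3
  v3 := P.v3

theorem reflect_word {t v : G} (hinv : t * v * t⁻¹ = v⁻¹) (x : G) :
    t * (v * x * v⁻¹) * t⁻¹ = v⁻¹ * (t * x * t⁻¹) * v ∧ t * (v⁻¹ * x * v) * t⁻¹ = v * (t * x * t⁻¹) * v⁻¹ := by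
  have h1 : t * v = v⁻¹ * t := by rw [← hinv, inv_mul_cancel_right]
  have h2 : t * v⁻¹ = v * t := by rw [mul_inv_eq_iff_eq_mul, mul_assoc, h1, mul_inv_cancel_left]
  have h3 : v⁻¹ * t⁻¹ = t⁻¹ * v := by rw [← mul_inv_rev, h1, mul_inv_rev, inv_inv]
  have h4 : v * t⁻¹ = t⁻¹ * v⁻¹ := by
    calc v * t⁻¹ = (t * v⁻¹)⁻¹ := by group
      _ = (v * t)⁻¹ := by rw [h2]
      _ = _ := by group
  constructor
  · calc t * (v * x * v⁻¹) * t⁻¹ = (t * v) * x * (v⁻¹ * t⁻¹) := by group
      _ = _ := by rw [h1, h3]; group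
  · calc t * (v⁻¹ * x * v) * t⁻¹ = (t * v⁻¹) * x * (v * t⁻¹) := by group
      _ = _ := by rw [h2, h4]; group

/-- An inverting element which sends the first unit into its own quaternion group negates one of its units. -/
theorem Pre.exists_fixed (P : Pre G) {t : G} (hzt : Commute P.z t) (hinv : t * P.v * t⁻¹ = P.v⁻¹) {a : Bool}
    {p : Fin 4} (hp : p ≠ 0) (h : t * P.i * t⁻¹ = P.sg a * P.u p) :
    ∃ (n : Fin 4) (hn : n ≠ 0), t * (P.move n hn).i * t⁻¹ = P.z * (P.move n hn).i := by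
  have hsv : Commute (P.sg a) P.v := P.sg_comm a P.zv
  have key : ∃ (n : Fin 4) (_ : n ≠ 0), t * P.u n * t⁻¹ = P.sg a * P.u n := by
    obtain ⟨hj, hk⟩ := reflect_word hinv P.i
    rw [h] at hj hk
    fin_cases p
    · exact absurd rfl hp
    · exact ⟨1, by decide, h⟩
    · refine ⟨3, by decide, hk.trans ?_⟩
      have e : P.v * P.u 2 = P.u 3 * P.v := (P.v_u 2).1
      calc P.v * (P.sg a * P.u 2) * P.v⁻¹ = (P.v * P.sg a) * P.u 2 * P.v⁻¹ := by group
        _ = P.sg a * (P.v * P.u 2) * P.v⁻¹ := by rw [← hsv.eq]; group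
        _ = P.sg a * P.u 3 := by rw [e]; group
    · refine ⟨2, by decide, hj.trans ?_⟩
      have e : P.v * P.u 2 = P.u 3 * P.v := (P.v_u 2).1
      calc P.v⁻¹ * (P.sg a * P.u 3) * P.v = (P.v⁻¹ * P.sg a) * (P.u 3 * P.v) := by group
        _ = P.sg a * P.v⁻¹ * (P.v * P.u 2) := by rw [← hsv.inv_right.eq, e]
        _ = P.sg a * P.u 2 := by group
  obtain ⟨n, hn, hfix⟩ := key
  refine ⟨n, hn, ?_⟩
  set D := P.move n hn
  have hfix' : t * D.i * t⁻¹ = P.sg a * D.i := hfix
  cases a with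
  | true => exact hfix'
  | false =>
    exfalso
    have hf : t * D.i * t⁻¹ = D.i := by rw [hfix']; simp [Pre.sg]
    obtain ⟨hj, hk⟩ := reflect_word (show t * D.v * t⁻¹ = D.v⁻¹ from hinv) D.i
    rw [hf] at hj hk
    have hz : t * D.z * t⁻¹ = D.z := by
      show t * P.z * t⁻¹ = P.z
      rw [← hzt.eq, mul_inv_cancel_right]
    have e : D.i * (D.v⁻¹ * D.i * D.v) * (D.v * D.i * D.v⁻¹) = D.z := by
      calc D.i * (D.v⁻¹ * D.i * D.v) * (D.v * D.i * D.v⁻¹)
          = (t * D.i * t⁻¹) * (t * (D.v * D.i * D.v⁻¹) * t⁻¹) * (t * (D.v⁻¹ * D.i * D.v) * t⁻¹) := by rw [hf, hj, hk]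
        _ = t * (D.i * (D.v * D.i * D.v⁻¹) * (D.v⁻¹ * D.i * D.v)) * t⁻¹ := by group
        _ = D.z := by rw [D.ijk, hz]
    change D.u 1 * D.u 3 * D.u 2 = D.z at e
    rw [D.u_mul, mul_assoc, D.u_mul] at e
    simp [qtab, Pre.sg, show D.u 0 = 1 from rfl, D.zz] at e
    exact D.z_ne e.symm

variable [Finite G] {z : G} (K : Core z) (hyp : K.Six) (hex : Cfsg.IsExtraspecial 2 ↥K.Q) {v t : G}
  (hp : K.Pair v t)

include hex in
theorem core_facts : (∀ x ∈ K.Q, x * x = 1 ∨ x * x = z) ∧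
    ∀ x ∈ K.Q, (∀ y ∈ K.Q, y * x = x * y) → x = 1 ∨ x = z := by
  obtain ⟨w, hw⟩ := Solv.ExtTwo.of_extraspecial hex
  have hwz : (w : G) = z := by
    rcases hw.center ⟨z, K.z_mem⟩ (fun y => Subtype.ext (K.comm_z y.2).symm) with h | h
    · exact absurd (congrArg Subtype.val h) K.z_ne
    · exact (congrArg Subtype.val h).symm
  refine ⟨fun x hx => ?_, fun x hx h => ?_⟩
  · rcases hw.sq ⟨x, hx⟩ with e | e
    · exact Or.inl (congrArg Subtype.val e)
    · exact Or.inr ((congrArg Subtype.val e).trans hwz)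
  · rcases hw.center ⟨x, hx⟩ (fun y => Subtype.ext (h y y.2).symm) with e | e
    · exact Or.inl (congrArg Subtype.val e)
    · exact Or.inr ((congrArg Subtype.val e).trans hwz)

include hyp hp in
/-- A unit does not commute with its rotation. -/
theorem rot_anti {x : G} (hx : x ∈ K.Q) (hxx : x * x = z) :
    x * (v * x * v⁻¹) ≠ v * x * v⁻¹ * x := by
  intro hc
  set a := v * x * v⁻¹ with ha
  set b := v⁻¹ * x * v with hb
  have haa : a * a = z := by
    rw [ha, show v * x * v⁻¹ * (v * x * v⁻¹) = v * (x * x) * v⁻¹ by group, hxx, K.v_comm hp, mul_inv_cancel_right]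
  have hbb : b * b = z := by
    rw [hb, show v⁻¹ * x * v * (v⁻¹ * x * v) = v⁻¹ * (x * x) * v by group, hxx, mul_assoc, ← K.v_comm hp,
      inv_mul_cancel_left]
  have h1 : x * a * (x * a) = 1 := by rw [(show Commute a x from hc.symm).mul_mul_mul_comm, hxx, haa, K.zz]
  have hb' : b ∈ K.Q := K.vQ' hp hx
  rcases zpowers_two K.order ((K.mod_z hyp hp).2.1 x hx) with h | h
  · rw [eq_inv_of_mul_eq_one_left h, ← mul_inv_rev, hbb, K.z_inv] at h1
    exact K.z_ne h1
  · have e : x * a = z * b⁻¹ := by rw [← h, mul_inv_cancel_right]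
    have hcz : Commute b⁻¹ z := (show Commute b z from K.comm_z hb').inv_left
    rw [e, hcz.mul_mul_mul_comm, K.zz, one_mul, ← mul_inv_rev, hbb, K.z_inv] at h1
    exact K.z_ne h1

include hyp hp in
theorem normalise {x : G} (hx : x ∈ K.Q) (hxx : x * x = z) :
    ∃ i, (i = x ∨ i = z * x) ∧ i ∈ K.Q ∧ i * i = z ∧ i * (v * i * v⁻¹) * (v⁻¹ * i * v) = z := by
  rcases zpowers_two K.order ((K.mod_z hyp hp).2.1 x hx) with h | h
  · have hzx : Commute x z := K.comm_z hx
    refine ⟨z * x, Or.inr rfl, mul_mem K.z_mem hx, ?_, ?_⟩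
    · rw [hzx.mul_mul_mul_comm, K.zz, one_mul, hxx]
    · have hv : Commute v z := K.v_comm hp
      have ha : Commute (v * x * v⁻¹) z := (hv.mul_left hzx).mul_left hv.inv_left
      have hb : Commute (v⁻¹ * x * v) z := (hv.inv_left.mul_left hzx).mul_left hv
      rw [show v * (z * x) * v⁻¹ = z * (v * x * v⁻¹) by
          rw [← mul_assoc, hv.eq]; group,
        show v⁻¹ * (z * x) * v = z * (v⁻¹ * x * v) by
          rw [← mul_assoc, hv.inv_left.eq]; group,
        hzx.mul_mul_mul_comm, K.zz, one_mul, mul_assoc, ← mul_assoc (v * x * v⁻¹), ha.eq,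
        mul_assoc z (v * x * v⁻¹), ← mul_assoc x, hzx.eq, mul_assoc z x, ← mul_assoc x, h, mul_one]
  · exact ⟨x, Or.inl rfl, hx, hxx, h⟩

include hyp hex hp in
theorem exists_pre : ∃ P : Pre G, P.z = z ∧ P.v = v ∧ P.i ∈ K.Q ∧ P.i' ∈ K.Q := by
  classical
  obtain ⟨hsq, hcen⟩ := core_facts K hex
  obtain ⟨x0, hx0, hxx0⟩ : ∃ x ∈ K.Q, x * x = z := by
    by_contra hcon
    push Not at hcon
    have hel : ∀ x ∈ K.Q, x * x = 1 := fun x hx => (hsq x hx).resolve_right (hcon x hx)
    have hcomm : ∀ x ∈ K.Q, ∀ y ∈ K.Q, y * x = x * y := fun x hx y hy => by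
      have h := hel _ (mul_mem hx hy)
      calc y * x = x * x * (y * x) * (y * y) := by rw [hel x hx, hel y hy, one_mul, mul_one]
        _ = x * (x * y * (x * y)) * y := by group
        _ = x * y := by rw [h, mul_one]
    have hle : K.Q ≤ Subgroup.zpowers z := fun x hx => by
      rcases hcen x hx (hcomm x hx) with rfl | rfl
      exacts [one_mem _, Subgroup.mem_zpowers _]
    have := Subgroup.card_le_of_le hle
    rw [K.card_Q, Nat.card_zpowers, K.order] at this
    omega
  obtain ⟨i, -, hiQ, hii, hijk⟩ := normalise K hyp hp hx0 hxx0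
  set j := v * i * v⁻¹ with hj
  set k := v⁻¹ * i * v with hk
  have hjQ : j ∈ K.Q := K.vQ hp hiQ
  have hanti : i * j = j * i * z :=
    (K.comm_cases hyp hp hiQ hjQ).resolve_left (rot_anti K hyp hp hiQ hii)
  have hanti' : j * i = i * j * z := by
    conv_rhs => rw [hanti, mul_assoc (j * i), K.zz, mul_one]
  -- every element is moved into the centraliser of the first factor
  have hadj : ∀ x ∈ K.Q, ∃ p ∈ ({1, i, j, i * j} : Finset G),
      i * (x * p) = x * p * i ∧ j * (x * p) = x * p * j := by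
    intro x hx
    have hzr : ∀ y : G, y ∈ K.Q → z * y = y * z := fun y hy => (K.comm_z hy).symm
    have cj : ∀ {a b c d : G}, a * b = b * a → a * c = c * a * d → d = 1 → a * (b * c) = b * c * a := by
      intro a b c d h1 h2 h3
      rw [← mul_assoc, h1, mul_assoc, h2, h3, mul_one, ← mul_assoc]
    rcases K.comm_cases hyp hp hiQ hx with h1 | h1 <;> rcases K.comm_cases hyp hp hjQ hx with h2 | h2
    · exact ⟨1, by simp, by simp [h1], by simp [h2]⟩
    · refine ⟨i, by simp, ?_, ?_⟩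
      · rw [← mul_assoc, h1]
      · calc j * (x * i) = x * j * (z * i) := by rw [← mul_assoc, h2]; group
          _ = x * (j * i) * z := by rw [hzr i hiQ]; group
          _ = x * i * j * (z * z) := by rw [hanti']; group
          _ = x * i * j := by rw [K.zz, mul_one]
    · refine ⟨j, by simp, ?_, ?_⟩
      · calc i * (x * j) = x * i * (z * j) := by rw [← mul_assoc, h1]; group
          _ = x * (i * j) * z := by rw [hzr j hjQ]; group
          _ = x * j * i * (z * z) := by rw [hanti]; group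
          _ = x * j * i := by rw [K.zz, mul_one]
      · rw [← mul_assoc, h2]
    · refine ⟨i * j, by simp, ?_, ?_⟩
      · calc i * (x * (i * j)) = x * i * (z * (i * j)) := by rw [← mul_assoc, h1]; group
          _ = x * i * (i * j) * z := by rw [hzr _ (mul_mem hiQ hjQ)]; group
          _ = x * i * (j * i * z) * z := by rw [hanti]
          _ = x * (i * j) * i * (z * z) := by group
          _ = x * (i * j) * i := by rw [K.zz, mul_one]
      · calc j * (x * (i * j)) = x * j * (z * (i * j)) := by rw [← mul_assoc, h2]; group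
          _ = x * (j * i) * j * z := by rw [hzr _ (mul_mem hiQ hjQ)]; group
          _ = x * (i * j) * (z * j) * z := by rw [hanti']; group
          _ = x * (i * j) * j * (z * z) := by rw [hzr j hjQ]; group
          _ = x * (i * j) * j := by rw [K.zz, mul_one]
  obtain ⟨y0, hy0, hyy0, hiy, hjy⟩ : ∃ y ∈ K.Q, y * y = z ∧ i * y = y * i ∧ j * y = y * j := by
    by_contra hcon
    push Not at hcon
    have hel : ∀ y ∈ K.Q, i * y = y * i → j * y = y * j → y * y = 1 := fun y hy h1 h2 =>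
      (hsq y hy).resolve_right fun h => hcon y hy h h1 h2
    have hcent : ∀ y ∈ K.Q, i * y = y * i → j * y = y * j → y = 1 ∨ y = z := by
      intro y hy h1 h2
      refine hcen y hy fun x hx => ?_
      obtain ⟨p, hp', e1, e2⟩ := hadj x hx
      have hpQ : p ∈ K.Q := by
        simp only [Finset.mem_insert, Finset.mem_singleton] at hp'
        rcases hp' with rfl | rfl | rfl | rfl
        exacts [one_mem _, hiQ, hjQ, mul_mem hiQ hjQ]
      set x' := x * p with hx'
      have hx'Q : x' ∈ K.Q := mul_mem hx hpQ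
      have hb : Commute x' y := by
        have hxy : i * (x' * y) = x' * y * i := (Commute.mul_right e1 h1 : Commute i (x' * y))
        have hxy' : j * (x' * y) = x' * y * j := (Commute.mul_right e2 h2 : Commute j (x' * y))
        have h := hel _ (mul_mem hx'Q hy) hxy hxy'
        show x' * y = y * x'
        calc x' * y = (x' * y)⁻¹ := (inv_eq_of_mul_eq_one_right h).symm
          _ = y * x' := by
            rw [mul_inv_rev, inv_eq_of_mul_eq_one_right (hel y hy h1 h2),
              inv_eq_of_mul_eq_one_right (hel x' hx'Q e1 e2)]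
      have hpy : Commute p y := by
        simp only [Finset.mem_insert, Finset.mem_singleton] at hp'
        rcases hp' with rfl | rfl | rfl | rfl
        exacts [Commute.one_left y, h1, h2, Commute.mul_left h1 h2]
      have : x = x' * p⁻¹ := by rw [hx', mul_inv_cancel_right]
      rw [this]
      exact (hb.mul_left hpy.inv_left).eq
    let S : Finset G := ({1, i, j, i * j} : Finset G).image (fun p => p⁻¹) ∪
      ({1, i, j, i * j} : Finset G).image (fun p => z * p⁻¹)
    have hS : ∀ x ∈ K.Q, x ∈ S := by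
      intro x hx
      obtain ⟨p, hp', e1, e2⟩ := hadj x hx
      have hpQ : p ∈ K.Q := by
        simp only [Finset.mem_insert, Finset.mem_singleton] at hp'
        rcases hp' with rfl | rfl | rfl | rfl
        exacts [one_mem _, hiQ, hjQ, mul_mem hiQ hjQ]
      rcases hcent _ (mul_mem hx hpQ) e1 e2 with h | h
      · exact Finset.mem_union_left _ (Finset.mem_image.2 ⟨p, hp', (eq_inv_of_mul_eq_one_left h).symm⟩)
      · exact Finset.mem_union_right _ (Finset.mem_image.2 ⟨p, hp', by rw [← h, mul_inv_cancel_right]⟩)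
    have hS8 : S.card ≤ 8 := le_trans (Finset.card_union_le _ _)
      (Nat.add_le_add (Finset.card_image_le.trans Finset.card_le_four) (Finset.card_image_le.trans Finset.card_le_four))
    have h32 : Nat.card K.Q ≤ S.card := by
      rw [← Nat.card_eq_finsetCard S]
      exact Nat.card_le_card_of_injective (fun q : K.Q => (⟨q, hS q q.2⟩ : S))
        fun a b e => Subtype.ext (congrArg (fun q : (S : Finset G) => (q : G)) e)
    rw [K.card_Q] at h32
    omega
  obtain ⟨i', hi'eq, hi'Q, hii', hijk'⟩ := normalise K hyp hp hy0 hyy0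
  have hzi : Commute z i := (K.comm_z hiQ).symm
  have hzj : Commute z j := (K.comm_z hjQ).symm
  have hci : Commute i i' := by
    rcases hi'eq with rfl | rfl
    exacts [hiy, hzi.symm.mul_right hiy]
  have hcj : Commute j i' := by
    rcases hi'eq with rfl | rfl
    exacts [hjy, hzj.symm.mul_right hjy]
  have hck : Commute k i' := by
    have e : k = (i * j)⁻¹ * z := eq_inv_mul_iff_mul_eq.2 hijk
    rw [e]
    exact (hci.mul_left hcj).inv_left.mul_left (K.comm_z hi'Q).symm
  have h2 : v * v = v⁻¹ := K.v_sq hp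
  refine ⟨{
    z := z, i := i, i' := i', v := v, z_ne := K.z_ne, zz := K.zz, zi := hzi, zi' := (K.comm_z hi'Q).symm
    zv := (K.v_comm hp).symm, ii := hii, ii' := hii', ijk := hijk, ijk' := hijk', c0 := hci
    c1 := ?_, c2 := ?_, v3 := by rw [← pow_three']; exact K.v_cube hp }, rfl, rfl, hiQ, hi'Q⟩
  · have h := (Commute.conj_iff v).2 hck
    rwa [show v * k * v⁻¹ = i by rw [hk]; group] at h
  · have h := (Commute.conj_iff v⁻¹).2 hcj
    rwa [show v⁻¹ * j * v⁻¹⁻¹ = i by rw [hj]; group, inv_inv] at h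

include hyp hex hp in
/-- The four shapes. -/
theorem exists_gens : ∃ (sw eps : Bool) (D : Gens sw eps G), D.z = z ∧ D.v = v ∧ D.t = t ∧ D.i ∈ K.Q ∧ D.i' ∈ K.Q := by
  obtain ⟨P0, hz0, hv0, hi0, hi0'⟩ := exists_pre K hyp hex hp
  have htz : t * z = z * t := Subgroup.mem_centralizer_singleton_iff.1 hp.t_mem
  have hinv : ∀ P : Pre G, P.v = v → t * P.v * t⁻¹ = P.v⁻¹ := fun P e => by rw [e, hp.inv]
  have hzt : ∀ P : Pre G, P.z = z → Commute P.z t := fun P e => by rw [e]; exact htz.symm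
  have hmem : ∀ P : Pre G, P.z = z → P.v = v → P.i ∈ K.Q → P.i' ∈ K.Q → ∀ q, P.eq q ∈ K.Q :=
    fun P e1 e2 h1 h2 => P.eq_mem h1 h2 (e1 ▸ K.z_mem) (fun x hx => by rw [e2]; exact K.vQ hp hx)
  have hu : ∀ P : Pre G, P.z = z → P.v = v → P.i ∈ K.Q → P.i' ∈ K.Q → ∀ p, P.u p ∈ K.Q ∧ P.u' p ∈ K.Q := by
    intro P e1 e2 h1 h2 p
    have a := hmem P e1 e2 h1 h2 (false, p, 0)
    have b := hmem P e1 e2 h1 h2 (false, 0, p)
    simp [Pre.eq, Pre.sg, show P.u 0 = 1 from rfl, show P.u' 0 = 1 from rfl] at a b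
    exact ⟨a, b⟩
  -- the image of a unit is a unit
  have himg : ∀ P : Pre G, P.z = z → P.v = v → P.i ∈ K.Q → P.i' ∈ K.Q →
      ∃ q : Q5, P.eq q = t * P.i * t⁻¹ ∧ qmul q q = qz := by
    intro P e1 e2 h1 h2
    obtain ⟨q, hq⟩ := P.eq_cover K.card_Q (hmem P e1 e2 h1 h2) (K.conj_mem hp.t_mem h1)
    refine ⟨q, hq, P.eq_injective ?_⟩
    rw [← P.eq_mul, hq, P.eq_qz, show t * P.i * t⁻¹ * (t * P.i * t⁻¹) = t * (P.i * P.i) * t⁻¹ by group, P.ii,
      ← (hzt P e1).eq, mul_inv_cancel_right]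
  -- the square of the inverting element
  have htt : t * t = 1 ∨ t * t = z := by
    refine K.fix hyp hp.order (K.v_comm hp) (K.mem_Q.2 ⟨mul_mem hp.t_mem hp.t_mem, ?_⟩) ?_
    · have h := perm_three_sq (K.π ⟨t, hp.t_mem⟩) (by
        rw [← map_pow, ← map_one K.π]
        exact congrArg _ (Subtype.ext (by simpa using hp.pow)))
      rw [← h, ← map_mul]
      rfl
    · have h1 : t * v = v⁻¹ * t := by rw [← hp.inv, inv_mul_cancel_right]
      have h2 : t * v⁻¹ = v * t := by rw [mul_inv_eq_iff_eq_mul, mul_assoc, h1, mul_inv_cancel_left]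
      rw [mul_assoc, h1, ← mul_assoc, h2, mul_assoc]
  obtain ⟨eps, heps⟩ : ∃ eps : Bool, t * t = if eps then z else 1 := by
    rcases htt with h | h
    exacts [⟨false, h⟩, ⟨true, h⟩]
  have fin : ∀ (sw : Bool) (P : Pre G), P.z = z → P.v = v → P.i ∈ K.Q → P.i' ∈ K.Q →
      t * P.i * t⁻¹ = P.z * (if sw then P.i' else P.i) → t * P.i' * t⁻¹ = P.z * (if sw then P.i else P.i') →
      ∃ (sw eps : Bool) (D : Gens sw eps G), D.z = z ∧ D.v = v ∧ D.t = t ∧ D.i ∈ K.Q ∧ D.i' ∈ K.Q :=
    fun sw P e1 e2 h1 h2 ha hb => ⟨sw, eps,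
      { toPre := P, t := t, zt := hzt P e1
        tvt := by rw [← hinv P e2, inv_mul_cancel_right]
        tt := by rw [e1]; exact heps
        ti := mul_inv_eq_iff_eq_mul.1 ha, ti' := mul_inv_eq_iff_eq_mul.1 hb }, e1, e2, rfl, h1, h2⟩
  obtain ⟨q, hq, hqq⟩ := himg P0 hz0 hv0 hi0 hi0'
  obtain ⟨a, p, r⟩ := q
  rcases square_z _ hqq with ⟨hp0, hr0⟩ | ⟨hp0, hr0⟩
  · -- the quaternion groups are normalised
    simp only at hp0 hr0
    subst hr0
    obtain ⟨n, hn, hfix⟩ := P0.exists_fixed (hzt P0 hz0) (hinv P0 hv0) hp0 (a := a) (by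
      rw [← hq]; simp [Pre.eq, show P0.u' 0 = 1 from rfl])
    set P1 := P0.move n hn
    have hi1 : P1.i ∈ K.Q := (hu P0 hz0 hv0 hi0 hi0' n).1
    -- the other one as well
    set P2 := P1.swap
    obtain ⟨q', hq', hqq'⟩ := himg P2 hz0 hv0 hi0' hi1
    obtain ⟨b, r', p'⟩ := q'
    have hfix1 : t * P1.i * t⁻¹ = P1.z * P1.i := hfix
    have hj1 := (reflect_word (hinv P1 hv0) P1.i).1
    rw [hfix1] at hj1
    have hsw : ∀ q : Q5, P2.eq q = P1.eq (q.1, q.2.2, q.2.1) := fun q => by
      show P1.sg q.1 * (P1.u' q.2.1 * P1.u q.2.2) = P1.sg q.1 * (P1.u q.2.2 * P1.u' q.2.1)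
      rw [(P1.u_u' _ _).eq]
    rw [hsw] at hq'
    have hqq1 : qmul (b, p', r') (b, p', r') = qz := P1.eq_injective (by
      rw [← P1.eq_mul, hq', P1.eq_qz]
      show t * P1.i' * t⁻¹ * (t * P1.i' * t⁻¹) = P1.z
      rw [show t * P1.i' * t⁻¹ * (t * P1.i' * t⁻¹) = t * (P1.i' * P1.i') * t⁻¹ by group, P1.ii',
        ← (hzt P1 hz0).eq, mul_inv_cancel_right])
    have hu1 : ∀ m : Fin 4, P1.eq (false, m, 0) = P1.u m := fun m => by
      simp [Pre.eq, Pre.sg, show P1.u' 0 = 1 from rfl]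
    have hc0 : Commute (t * P1.i' * t⁻¹) (P1.u 1) := by
      have h := (Commute.conj_iff t).2 P1.c0.symm
      rw [hfix1] at h
      have hz : Commute (t * P1.i' * t⁻¹) P1.z :=
        (((hzt P1 hz0).mul_right P1.zi').mul_right (hzt P1 hz0).inv_right).symm
      have h' := (hz.mul_right h)
      rwa [← mul_assoc, P1.zz, one_mul] at h'
    have hc3 : Commute (t * P1.i' * t⁻¹) (P1.u 3) := by
      have h := (Commute.conj_iff t).2 (P1.u_u' 2 1).symm
      change Commute (t * P1.i' * t⁻¹) (t * (P1.v * P1.i * P1.v⁻¹) * t⁻¹) at h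
      rw [hj1] at h
      have hz : Commute (t * P1.i' * t⁻¹) P1.z :=
        (((hzt P1 hz0).mul_right P1.zi').mul_right (hzt P1 hz0).inv_right).symm
      have h' := hz.mul_right h
      rw [show P1.z * (P1.v⁻¹ * (P1.z * P1.i) * P1.v) = P1.z * P1.z * (P1.v⁻¹ * P1.i * P1.v) by
        rw [← mul_assoc P1.v⁻¹, ← P1.zv.inv_right.eq]; group, P1.zz, one_mul] at h'
      exact h'
    have hsec := second_factor (b, p', r') hqq1
      (P1.eq_injective (by rw [← P1.eq_mul, ← P1.eq_mul, hu1, hq']; exact hc0.eq))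
      (P1.eq_injective (by rw [← P1.eq_mul, ← P1.eq_mul, hu1, hq']; exact hc3.eq))
    obtain ⟨hp', hr'⟩ := hsec
    simp only at hp' hr'
    subst hp'
    obtain ⟨m, hm, hfix2⟩ := P2.exists_fixed (hzt P2 hz0) (hinv P2 hv0) hr' (a := b) (by
      show t * P1.i' * t⁻¹ = P1.sg b * P1.u' r'
      refine hq'.symm.trans ?_
      simp [Pre.eq, show P1.u 0 = 1 from rfl])
    set P3 := P2.move m hm
    refine fin false P3.swap hz0 hv0 hi1 (hu P2 hz0 hv0 hi0' hi1 m).1 ?_ ?_
    · exact hfix1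
    · exact hfix2
  · -- the quaternion groups are exchanged
    simp only at hp0 hr0
    subst hp0
    set x := t * P0.i * t⁻¹ with hx
    have hxQ : x ∈ K.Q := K.conj_mem hp.t_mem hi0
    have hxeq : x = P0.sg a * P0.u' r := by rw [← hq]; simp [Pre.eq, show P0.u 0 = 1 from rfl]
    have hxx : x * x = z := by
      rw [hx, show t * P0.i * t⁻¹ * (t * P0.i * t⁻¹) = t * (P0.i * P0.i) * t⁻¹ by group, P0.ii, hz0, htz,
        mul_inv_cancel_right]
    obtain ⟨hj, hk⟩ := reflect_word hp.inv P0.i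
    rw [← hx] at hj hk
    have hrev : x * (v⁻¹ * x * v) * (v * x * v⁻¹) = z := by
      have h := congrArg (fun g => t * g * t⁻¹) P0.ijk
      simp only [hv0] at h
      calc x * (v⁻¹ * x * v) * (v * x * v⁻¹)
          = (t * P0.i * t⁻¹) * (t * (v * P0.i * v⁻¹) * t⁻¹) * (t * (v⁻¹ * P0.i * v) * t⁻¹) := by rw [hj, hk]
        _ = t * (P0.i * (v * P0.i * v⁻¹) * (v⁻¹ * P0.i * v)) * t⁻¹ := by group
        _ = t * P0.z * t⁻¹ := h
        _ = z := by rw [hz0, htz, mul_inv_cancel_right]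
    obtain ⟨i2, hi2eq, hi2Q, hii2, hijk2⟩ := normalise K hyp hp hxQ hxx
    have hi2 : i2 = z * x := by
      refine hi2eq.resolve_left fun e => ?_
      subst e
      refine rot_anti K hyp hp (K.vQ hp hxQ) ?_ ?_
      · rw [show v * x * v⁻¹ * (v * x * v⁻¹) = v * (x * x) * v⁻¹ by group, hxx, K.v_comm hp, mul_inv_cancel_right]
      · rw [show v * (v * x * v⁻¹) * v⁻¹ = v * v * x * (v * v)⁻¹ by group, K.v_sq hp, inv_inv]
        have h := hrev.trans hijk2.symm
        rw [mul_assoc, mul_assoc x (v * x * v⁻¹)] at h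
        exact (mul_left_cancel h).symm
    subst hi2
    have hcu : ∀ m : Fin 4, Commute (P0.u m) (z * x) := fun m => by
      have h1 : Commute (P0.u m) z := hz0 ▸ (P0.z_u m).1.symm
      have h2 : Commute (P0.u m) x := by
        rw [hxeq]
        exact ((P0.sg_comm a (P0.z_u m).1).symm).mul_right (P0.u_u' m r)
      exact h1.mul_right h2
    refine fin true
      { z := z, i := P0.i, i' := z * x, v := v, z_ne := K.z_ne, zz := K.zz, zi := hz0 ▸ P0.zi
        zi' := (K.comm_z hi2Q).symm, zv := (K.v_comm hp).symm, ii := hz0 ▸ P0.ii, ii' := hii2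
        ijk := by have := P0.ijk; rw [hz0, hv0] at this; exact this
        ijk' := hijk2, c0 := hcu 1
        c1 := by
          have h := (Commute.conj_iff v).2 (hcu 3)
          rwa [show v * P0.u 3 * v⁻¹ = P0.i by
            rw [show P0.u 3 = v⁻¹ * P0.i * v by rw [← hv0]; rfl]; group] at h
        c2 := by
          have h := (Commute.conj_iff v⁻¹).2 (hcu 2)
          rwa [show v⁻¹ * P0.u 2 * v⁻¹⁻¹ = P0.i by
            rw [show P0.u 2 = v * P0.i * v⁻¹ by rw [← hv0]; rfl]; group, inv_inv] at h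
        v3 := by rw [← pow_three']; exact K.v_cube hp }
      rfl rfl hi0 hi2Q ?_ ?_
    · show x = z * (z * x)
      rw [← mul_assoc, K.zz, one_mul]
    · show t * (z * x) * t⁻¹ = z * P0.i
      rw [hx]
      calc t * (z * (t * P0.i * t⁻¹)) * t⁻¹ = (t * z) * t * P0.i * (t⁻¹ * t⁻¹) := by group
        _ = z * (t * t * P0.i * (t * t)⁻¹) := by rw [htz]; group
        _ = z * P0.i := by
          rcases htt with h | h <;> rw [h]
          · group
          · conv_lhs => rw [(show Commute z P0.i from hz0 ▸ P0.zi).eq, mul_inv_cancel_right]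

end Cfsg.Agent.MTwelve.CentShape
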