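import Cfsg.Agent.Lib.Spor.MTwelve.CentShape.Shape
import Cfsg.Agent.Lib.Spor.MTwelve.OrderFront.Main

/-!
In a simple group of order 95040 the two quaternion groups of the central involution are not exchanged, so that the
centraliser is the model.
-/

set_option autoImplicit false
set_option linter.style.haveILetI false

namespace Cfsg.Agent.MTwelve.CentShape

open Cfsg Cfsg.Agent.Char Cfsg.Agent.MTwelve.OrderFront Cfsg.Agent.Small.Order459648
open scoped ComplexConjugate

universe u

variable {G : Type u} [Group G] [Fintype G] [IsSimpleGroup G]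

theorem cent_inter_card {z : G} {K : Core z} {D : Gens true false G} (S : Shape K D) (q : Q5) :
    Nat.card ↥(Subgroup.centralizer ({z} : Set G) ⊓ Subgroup.centralizer ({D.eq q} : Set G)) =
      (commSet true false q).card := by
  have hb : Function.Bijective fun X : (commSet true false q : Finset El) =>
      (⟨D.ev X, (S.mem_cent _).2 ⟨X, rfl⟩, Subgroup.mem_centralizer_singleton_iff.2 ((D.comm_iff S.inj).2 X.2)⟩ :
        ↥(Subgroup.centralizer ({z} : Set G) ⊓ Subgroup.centralizer ({D.eq q} : Set G))) := by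
    refine ⟨fun X Y h => Subtype.ext (S.inj (congrArg Subtype.val h)), fun g => ?_⟩
    obtain ⟨X, hX⟩ := (S.mem_cent _).1 g.2.1
    have hc : D.ev X * D.eq q = D.eq q * D.ev X := by
      rw [hX]; exact Subgroup.mem_centralizer_singleton_iff.1 g.2.2
    exact ⟨⟨X, (D.comm_iff S.inj).1 hc⟩, Subtype.ext hX⟩
  rw [← Nat.card_eq_finsetCard]
  exact (Nat.card_eq_of_bijective _ hb).symm

theorem no_swap (F : Front G) {z : G} (K : Core z) {D : Gens true false G} (S : Shape K D) : False := by
  classical
  have hθv : ∀ q : Q5, qmul q q = q1 → q ≠ q1 → (F.θ : G → ℂ) (D.eq q) = 0 := by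
    intro q hq hq1
    have hne : D.eq q ≠ 1 := D.eq_ne_one hq1
    haveI : Fact (Nat.Prime 2) := ⟨Nat.prime_two⟩
    have hord : orderOf (D.eq q) = 2 := orderOf_eq_prime (by rw [sq, D.eq_mul, hq, D.eq_q1]) hne
    have h32 : 32 ∣ Nat.card (Subgroup.centralizer ({D.eq q} : Set G)) := by
      by_cases hz : q = qz
      · rw [hz, D.eq_qz, S.z_eq, K.card_cent]; norm_num
      · have h := cent_inter_card S q
        rw [cent_invol_swap q hq hq1 hz] at h
        exact h ▸ Subgroup.card_dvd_of_le inf_le_right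
    have h := (F.invol_192 hord h32).2.2.2
    simpa using h
  set x := D.eq qi with hx
  have hxz : x * x = z := by
    rw [hx, D.eq_mul, show qmul qi qi = qz by decide +kernel, D.eq_qz, S.z_eq]
  have hx11 : ¬ 11 ∣ orderOf x := fun h => by
    have h4 : orderOf x ∣ 4 := orderOf_dvd_of_pow_eq_one (by
      rw [show x ^ 4 = x * x * (x * x) by simp [pow_succ, mul_assoc], hxz, K.zz])
    have := Nat.le_of_dvd (by norm_num) (h.trans h4)
    omega
  obtain ⟨a, ha⟩ := F.theta_int x hx11
  choose b hb using fun i => F.c_rat i x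
  have hC : Nat.card (Subgroup.centralizer ({x} : Set G)) = 16 := by
    rw [← cent_four_swap, ← cent_inter_card S qi]
    congr 2
    refine le_antisymm (fun g hg => ⟨?_, hg⟩) inf_le_right
    have hc : Commute g x := Subgroup.mem_centralizer_singleton_iff.1 hg
    exact Subgroup.mem_centralizer_singleton_iff.2 (hxz ▸ (hc.mul_right hc).eq)
  -- the multiplicity of the trivial character on the two-core
  have hsumQ : ∀ q : Q5, (F.θ : G → ℂ) (D.eq q) = if q = q1 then (16 : ℂ) else if qmul q q = q1 then 0 else (a : ℂ) := by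
    intro q
    by_cases h1 : q = q1
    · rw [if_pos h1, h1, D.eq_q1, val_one, show charDegree (F.θ : G → ℂ) = 16 from F.g0_eq]
      norm_num
    rw [if_neg h1]
    by_cases h2 : qmul q q = q1
    · rw [if_pos h2, hθv q h2 h1]
    rw [if_neg h2, ← ha]
    obtain ⟨X, hX⟩ := four_conj q h2
    have h := congrArg D.ev hX
    rw [← D.ev_mul, ← D.ev_mul, D.ev_inl, D.ev_inl] at h
    have hconj : D.eq q = D.ev X * x * (D.ev X)⁻¹ := by rw [h, mul_inv_cancel_right]
    rw [hconj]
    obtain ⟨n, ρ, -, hρ⟩ := F.θ.2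
    rw [← hρ]
    exact Representation.char_conj ρ _ _
  let φ : ↥K.Q →* G := K.Q.subtype
  obtain ⟨c, hc⟩ := classInner_natCast (isCharacter_comp φ (irr_isCharacter F.θ.2))
    (irr_isCharacter (isIrrCharacter_one (G := ↥K.Q)))
  let e : Q5 ≃ ↥K.Q := Equiv.ofBijective (fun q => ⟨D.eq q, (S.mem_core _).2 ⟨q, rfl⟩⟩)
    ⟨fun p q h => D.eq_injective (congrArg Subtype.val h), fun g => by
      obtain ⟨q, hq⟩ := (S.mem_core _).1 g.2
      exact ⟨q, Subtype.ext hq⟩⟩
  have hs : ∑ q : Q5, (F.θ : G → ℂ) (D.eq q) = ((16 + 12 * a : ℤ) : ℂ) := by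
    rw [Finset.sum_congr rfl fun q _ => hsumQ q, Finset.sum_ite, Finset.sum_const, Finset.sum_ite, Finset.sum_const_zero,
      zero_add, Finset.sum_const, Finset.filter_filter]
    have e1 : (Finset.univ.filter fun q : Q5 => q = q1).card = 1 := by decide +kernel
    have e2 : (Finset.univ.filter fun q : Q5 => ¬q = q1 ∧ ¬qmul q q = q1).card = 12 := by decide +kernel
    rw [e1, e2]
    push_cast
    simp [nsmul_eq_mul]
  have hT : ((16 + 12 * a : ℤ) : ℂ) = ((32 * (c : ℤ) : ℤ) : ℂ) := by
    rw [← hs, classInner] at *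
    have h32 : (Fintype.card ↥K.Q : ℂ) = 32 := by
      rw [← Nat.card_eq_fintype_card, K.card_Q]; norm_num
    rw [← Equiv.sum_comp e] at hc
    simp only [Function.comp_apply, map_one, mul_one] at hc
    have he : ∀ q, φ (e q) = D.eq q := fun q => rfl
    simp only [he] at hc
    push_cast
    rw [← hc]
    first
      | (rw [h32]; ring)
      | (rw [Nat.card_eq_fintype_card, h32]; ring)
      | (rw [K.card_Q]; push_cast; ring)
  have hT' : 16 + 12 * a = 32 * (c : ℤ) := by exact_mod_cast hT
  have hsq := F.sq_le5 (show F.Vals x b a from ⟨hx11, hb, ha⟩)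
  rw [hC] at hsq
  simp only [sq5, Nat.cast_ofNat] at hsq
  have h4 : a ≤ -4 ∨ 4 ≤ a := by omega
  have h16 : 16 ≤ a * a := by rcases h4 with h | h <;> nlinarith
  nlinarith [mul_self_nonneg (b 0), mul_self_nonneg (b 1), mul_self_nonneg (b 2), mul_self_nonneg (b 3)]

end Cfsg.Agent.MTwelve.CentShape

namespace Cfsg.Agent.MTwelve

open Cfsg.Agent.MTwelve.OrderFront Cfsg.Agent.MTwelve.CentShape

universe u

/-- A simple group of order 95040 has the setting of the recognition of the Mathieu group of degree twelve. -/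
theorem setup_of_card {G : Type u} [Group G] [Finite G] (hS : IsSimpleGroup G) (hG : Nat.card G = 95040) :
    Nonempty (Setup G) := by
  haveI := hS
  haveI := Fintype.ofFinite G
  obtain ⟨F⟩ := exists_front hG
  have hyp := OrderFront.local_hyp (G := G) hG
  haveI : Fact (Nat.Prime 2) := ⟨Nat.prime_two⟩
  obtain ⟨z, hz, h64⟩ := exists_central_elt (G := G) 2 (n := 4) (by rw [hG]; norm_num)
  obtain ⟨K⟩ := hyp.exists_core hz h64
  obtain ⟨v, t, hp⟩ := K.exists_pair (K.six_of_local hyp)
  obtain ⟨sw, eps, D, S⟩ := exists_shape K (K.six_of_local hyp) (K.extraspecial hyp hp)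
  obtain rfl := S.eps_false (K.six_of_local hyp) (K.exists_conj hyp hp)
  cases sw
  · exact S.setup
  · exact (no_swap F K S).elim

end Cfsg.Agent.MTwelve
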