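import Cfsg.Agent.Lib.Spor.MTwelve.CentShape.Checks

/-!
Consequences of the relations for the normal forms.
-/

set_option autoImplicit false

namespace Cfsg.Agent.MTwelve.CentShape

namespace Pre

variable {Γ : Type*} [Group Γ] (D : Pre Γ)

theorem eq_q1 : D.eq q1 = 1 := by simp [eq, q1, sg, u, u']

theorem eq_qz : D.eq qz = D.z := by simp [eq, qz, sg, u, u']

theorem eq_ne_one {q : Q5} (h : q ≠ q1) : D.eq q ≠ 1 := by
  intro e
  by_cases hq : q = qz
  · rw [hq, D.eq_qz] at e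
    exact D.z_ne e
  · obtain ⟨g, hg⟩ := noncentral q h hq
    have h1 := congrArg D.eq hg
    rw [← D.eq_mul, ← D.eq_mul, ← D.eq_mul, e, D.eq_qz, one_mul, mul_one] at h1
    exact D.z_ne (mul_eq_right.1 h1.symm)

theorem eq_injective : Function.Injective D.eq := by
  intro p q h
  obtain ⟨q', hq, hu⟩ := qmul_inv q
  apply hu
  by_contra hne
  refine D.eq_ne_one hne ?_
  rw [← D.eq_mul, h, D.eq_mul, hq, D.eq_q1]

theorem eq_mem {H : Subgroup Γ} (hi : D.i ∈ H) (hi' : D.i' ∈ H) (hz : D.z ∈ H)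
    (hv : ∀ x ∈ H, D.v * x * D.v⁻¹ ∈ H) (q : Q5) : D.eq q ∈ H := by
  have h2 : D.v * D.v = D.v⁻¹ := eq_inv_of_mul_eq_one_left D.v3
  have hv' : ∀ x ∈ H, D.v⁻¹ * x * D.v ∈ H := fun x hx => by
    have := hv _ (hv x hx)
    rwa [show D.v * (D.v * x * D.v⁻¹) * D.v⁻¹ = D.v * D.v * x * (D.v * D.v)⁻¹ by group, h2, inv_inv] at this
  obtain ⟨a, p, r⟩ := q
  refine mul_mem (by cases a <;> simp [sg, hz]) (mul_mem ?_ ?_)
  · fin_cases p
    exacts [one_mem _, hi, hv _ hi, hv' _ hi]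
  · fin_cases r
    exacts [one_mem _, hi', hv _ hi', hv' _ hi']

theorem eq_cover {H : Subgroup Γ} [Finite H] (hc : Nat.card H = 32) (hmem : ∀ q, D.eq q ∈ H) {x : Γ} (hx : x ∈ H) :
    ∃ q, D.eq q = x := by
  have hb : Function.Bijective fun q : Q5 => (⟨D.eq q, hmem q⟩ : H) := by
    refine (Nat.bijective_iff_injective_and_card _).2 ⟨fun p q h => D.eq_injective (congrArg Subtype.val h), ?_⟩
    rw [hc, Nat.card_eq_fintype_card]
    rfl
  obtain ⟨q, hq⟩ := hb.2 ⟨x, hx⟩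
  exact ⟨q, congrArg Subtype.val hq⟩

end Pre

namespace Gens

open Pre

variable {sw eps : Bool} {Γ : Type*} [Group Γ] (D : Gens sw eps Γ)

theorem ev_inl (q : Q5) : D.ev (inl q) = D.eq q := by simp [ev, inl]

theorem comm_iff (hi : Function.Injective D.ev) {X : El} {q : Q5} :
    D.ev X * D.eq q = D.eq q * D.ev X ↔ X ∈ commSet sw eps q := by
  rw [← D.ev_inl, D.ev_mul, D.ev_mul, hi.eq_iff, commSet, Finset.mem_filter, and_iff_right (Finset.mem_univ _)]

/-- A monomorphism from one group with these generators to another. -/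
theorem exists_hom {Δ : Type*} [Group Δ] (E : Gens sw eps Δ) (hD : Function.Bijective D.ev)
    (hE : Function.Injective E.ev) {H : Subgroup Δ} (hH : ∀ g, g ∈ H ↔ ∃ X, E.ev X = g) :
    ∃ φ : Γ →* Δ, Function.Injective φ ∧ φ.range = H ∧ φ D.z = E.z := by
  let e := Equiv.ofBijective _ hD
  have he : ∀ X, e.symm (D.ev X) = X := fun X => Equiv.ofBijective_symm_apply_apply _ _ X
  refine ⟨{ toFun := fun a => E.ev (e.symm a), map_one' := ?_, map_mul' := fun a b => ?_ }, ?_, ?_, ?_⟩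
  · rw [← D.ev_e1, he, E.ev_e1]
  · obtain ⟨X, rfl⟩ := hD.2 a
    obtain ⟨Y, rfl⟩ := hD.2 b
    rw [D.ev_mul, he, he, he, E.ev_mul]
  · exact hE.comp e.symm.injective
  · ext g
    rw [MonoidHom.mem_range, hH]
    exact ⟨fun ⟨a, ha⟩ => ⟨_, ha⟩, fun ⟨X, hX⟩ => ⟨D.ev X, by
      show E.ev (e.symm (D.ev X)) = g
      rw [he, hX]⟩⟩
  · show E.ev (e.symm D.z) = E.z
    rw [← D.ev_ez, he, E.ev_ez]

end Gens

end Cfsg.Agent.MTwelve.CentShape
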