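import Mathlib

/-!
Normal forms for extensions of an extraspecial group of order thirty-two by the symmetric group of degree three,
given by two quaternion subgroups rotated by an element of order three.
-/

set_option autoImplicit false

namespace Cfsg.Agent.MTwelve.CentShape

/-- the two-core in normal form: a sign and two quaternion units -/
abbrev Q5 : Type := Bool × Fin 4 × Fin 4

/-- the whole group in normal form -/
abbrev El : Type := Q5 × Fin 3 × Bool

/-- the products of the units `1, i, j, k` -/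
def qtab : Fin 4 → Fin 4 → Bool × Fin 4 :=
  ![![(false, 0), (false, 1), (false, 2), (false, 3)],
    ![(false, 1), (true, 0), (false, 3), (true, 2)],
    ![(false, 2), (true, 3), (true, 0), (false, 1)],
    ![(false, 3), (false, 2), (true, 1), (true, 0)]]

/-- the rotation of the units -/
def rot : Fin 4 → Fin 4 := ![0, 2, 3, 1]

/-- the reflection of the units -/
def flipU : Fin 4 → Bool × Fin 4 := ![(false, 0), (true, 1), (true, 3), (true, 2)]

/-- product in the two-core -/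
def qmul (x y : Q5) : Q5 :=
  ((x.1 ^^ y.1) ^^ ((qtab x.2.1 y.2.1).1 ^^ (qtab x.2.2 y.2.2).1), (qtab x.2.1 y.2.1).2, (qtab x.2.2 y.2.2).2)

/-- action of the element of order three -/
def vq (x : Q5) : Q5 := (x.1, rot x.2.1, rot x.2.2)

/-- action of the inverting element -/
def tq (sw : Bool) (x : Q5) : Q5 :=
  (x.1 ^^ ((flipU x.2.1).1 ^^ (flipU x.2.2).1),
    if sw then (flipU x.2.2).2 else (flipU x.2.1).2,
    if sw then (flipU x.2.1).2 else (flipU x.2.2).2)

/-- product in the whole group -/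
def emul (sw eps : Bool) (X Y : El) : El :=
  let q := if X.2.2 then tq sw Y.1 else Y.1
  let m := if X.2.2 then -Y.2.1 else Y.2.1
  let q' := (vq^[X.2.1.val]) q
  let s : Q5 := (eps && X.2.2 && Y.2.2, 0, 0)
  (qmul (qmul X.1 q') s, X.2.1 + m, X.2.2 ^^ Y.2.2)

/-- the neutral normal form -/
def e1 : El := ((false, 0, 0), 0, false)

/-- the involution of the two-core -/
def ez : El := ((true, 0, 0), 0, false)

/-- Two commuting quaternion groups with a rotation. -/
structure Pre (Γ : Type*) [Group Γ] where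
  /-- the involution -/
  z : Γ
  /-- the first quaternion unit -/
  i : Γ
  /-- the second quaternion unit -/
  i' : Γ
  /-- the element of order three -/
  v : Γ
  z_ne : z ≠ 1
  zz : z * z = 1
  zi : Commute z i
  zi' : Commute z i'
  zv : Commute z v
  ii : i * i = z
  ii' : i' * i' = z
  ijk : i * (v * i * v⁻¹) * (v⁻¹ * i * v) = z
  ijk' : i' * (v * i' * v⁻¹) * (v⁻¹ * i' * v) = z
  c0 : Commute i i'
  c1 : Commute i (v * i' * v⁻¹)
  c2 : Commute i (v⁻¹ * i' * v)
  v3 : v * v * v = 1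

/-- Generators with the relations. -/
structure Gens (sw eps : Bool) (Γ : Type*) [Group Γ] extends Pre Γ where
  /-- the inverting element -/
  t : Γ
  zt : Commute z t
  tvt : t * v = v⁻¹ * t
  tt : t * t = if eps then z else 1
  ti : t * i = z * (if sw then i' else i) * t
  ti' : t * i' = z * (if sw then i else i') * t

namespace Pre

variable {Γ : Type*} [Group Γ] (D : Pre Γ)

/-- the units of the first factor -/
def u : Fin 4 → Γ := ![1, D.i, D.v * D.i * D.v⁻¹, D.v⁻¹ * D.i * D.v]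

/-- the units of the second factor -/
def u' : Fin 4 → Γ := ![1, D.i', D.v * D.i' * D.v⁻¹, D.v⁻¹ * D.i' * D.v]

/-- the sign -/
def sg (a : Bool) : Γ := cond a D.z 1

/-- the element of the two-core -/
def eq (q : Q5) : Γ := D.sg q.1 * (D.u q.2.1 * D.u' q.2.2)

theorem sg_mul (a b : Bool) : D.sg a * D.sg b = D.sg (a ^^ b) := by
  cases a <;> cases b <;> simp [sg, D.zz]

theorem sg_comm (a : Bool) {g : Γ} (h : Commute D.z g) : Commute (D.sg a) g := by
  cases a
  · exact Commute.one_left g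
  · exact h

theorem z_u (p : Fin 4) : Commute D.z (D.u p) ∧ Commute D.z (D.u' p) := by
  fin_cases p
  · exact ⟨Commute.one_right _, Commute.one_right _⟩
  · exact ⟨D.zi, D.zi'⟩
  · exact ⟨(D.zv.mul_right D.zi).mul_right D.zv.inv_right, (D.zv.mul_right D.zi').mul_right D.zv.inv_right⟩
  · exact ⟨(D.zv.inv_right.mul_right D.zi).mul_right D.zv, (D.zv.inv_right.mul_right D.zi').mul_right D.zv⟩

theorem v_u (p : Fin 4) : D.v * D.u p = D.u (rot p) * D.v ∧ D.v * D.u' p = D.u' (rot p) * D.v := by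
  have h2 : D.v * D.v = D.v⁻¹ := eq_inv_of_mul_eq_one_left D.v3
  have key : ∀ g : Γ, D.v * (D.v * g * D.v⁻¹) = D.v⁻¹ * g * D.v * D.v := fun g => by
    calc D.v * (D.v * g * D.v⁻¹) = D.v * D.v * g * D.v⁻¹ := by group
      _ = D.v⁻¹ * g * D.v⁻¹ := by rw [h2]
      _ = D.v⁻¹ * g * (D.v * D.v) := by rw [h2]
      _ = _ := by group
  fin_cases p
  · simp [u, u', rot]
  · simp [u, u', rot, mul_assoc]
  · exact ⟨key D.i, key D.i'⟩
  · simp [u, u', rot, mul_assoc]

/-- the commutation of the two factors -/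
theorem u_u' (p r : Fin 4) : Commute (D.u p) (D.u' r) := by
  have hv : ∀ a b : Fin 4, Commute (D.u a) (D.u' b) → Commute (D.u (rot a)) (D.u' (rot b)) := by
    intro a b h
    have e1 : D.u (rot a) = D.v * D.u a * D.v⁻¹ := by rw [(D.v_u a).1, mul_inv_cancel_right]
    have e2 : D.u' (rot b) = D.v * D.u' b * D.v⁻¹ := by rw [(D.v_u b).2, mul_inv_cancel_right]
    rw [e1, e2]
    exact (Commute.conj_iff D.v).2 h
  have h11 : Commute (D.u 1) (D.u' 1) := D.c0
  have h12 : Commute (D.u 1) (D.u' 2) := D.c1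
  have h13 : Commute (D.u 1) (D.u' 3) := D.c2
  fin_cases p <;> fin_cases r
  all_goals first
    | exact Commute.one_left _
    | exact Commute.one_right _
    | exact h11
    | exact h12
    | exact h13
    | exact hv 1 1 h11
    | exact hv 1 2 h12
    | exact hv 1 3 h13
    | exact hv 2 2 (hv 1 1 h11)
    | exact hv 2 3 (hv 1 2 h12)
    | exact hv 2 1 (hv 1 3 h13)

omit D in
/-- the table of one quaternion factor -/
theorem quat {z : Γ} {i j k : Γ} (hz : Commute z i) (hzj : Commute z j) (hzk : Commute z k) (zz : z * z = 1)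
    (ii : i * i = z) (jj : j * j = z) (kk : k * k = z) (ijk : i * j * k = z) :
    i * j = k ∧ j * k = i ∧ k * i = j ∧ j * i = z * k ∧ k * j = z * i ∧ i * k = z * j := by
  have zi : z⁻¹ = z := inv_eq_of_mul_eq_one_right zz
  have inv : ∀ g : Γ, g * g = z → g⁻¹ = g * z := fun g hg =>
    inv_eq_of_mul_eq_one_right (by rw [← mul_assoc, hg, zz])
  have hij : i * j = k := by
    calc i * j = i * j * k * k⁻¹ := by group
      _ = z * (k * z) := by rw [ijk, inv k kk]
      _ = z * z * k := by rw [← hzk.eq, mul_assoc]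
      _ = k := by rw [zz, one_mul]
  have hjk : j * k = i := by
    calc j * k = i⁻¹ * (i * j * k) := by group
      _ = i * z * z := by rw [ijk, inv i ii]
      _ = i := by rw [mul_assoc, zz, mul_one]
  have hki : k * i = j := by
    calc k * i = j⁻¹ * (j * k) * i := by group
      _ = j * z * z := by rw [hjk, inv j jj, mul_assoc, ii]
      _ = j := by rw [mul_assoc, zz, mul_one]
  have rev : ∀ {a b c : Γ}, a * a = z → b * b = z → c * c = z → Commute z b → Commute z c → a * b = c → b * a = z * c := by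
    intro a b c ha hb hc hzb hzc hab
    calc b * a = b * a * (b * a * (b * a)⁻¹) := by group
      _ = (b⁻¹ * z) * (a⁻¹ * z) := by
          rw [inv a ha, inv b hb, mul_assoc b z z, zz, mul_one, mul_assoc a z z, zz, mul_one]; group
      _ = b⁻¹ * a⁻¹ := by
          have e1 : Commute z a⁻¹ := by
            have : a = c * b⁻¹ := by rw [← hab, mul_inv_cancel_right]
            rw [this]
            exact (hzc.mul_right hzb.inv_right).inv_right
          rw [mul_assoc, ← mul_assoc z, e1.eq, mul_assoc, zz, mul_one]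
      _ = c⁻¹ := by rw [← mul_inv_rev, hab]
      _ = z * c := by rw [inv c hc, hzc.eq]
  exact ⟨hij, hjk, hki, rev ii jj kk hzj hzk hij, rev jj kk ii hzk hz hjk, rev kk ii jj hz hzj hki⟩

theorem u_mul (p q : Fin 4) : D.u p * D.u q = D.sg (qtab p q).1 * D.u (qtab p q).2 := by
  have hj : D.u 2 * D.u 2 = D.z := by
    show D.v * D.i * D.v⁻¹ * (D.v * D.i * D.v⁻¹) = D.z
    calc D.v * D.i * D.v⁻¹ * (D.v * D.i * D.v⁻¹) = D.v * (D.i * D.i) * D.v⁻¹ := by group
      _ = D.z := by rw [D.ii, ← D.zv.eq, mul_inv_cancel_right]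
  have hk : D.u 3 * D.u 3 = D.z := by
    show D.v⁻¹ * D.i * D.v * (D.v⁻¹ * D.i * D.v) = D.z
    calc D.v⁻¹ * D.i * D.v * (D.v⁻¹ * D.i * D.v) = D.v⁻¹ * (D.i * D.i) * D.v := by group
      _ = D.z := by rw [D.ii, ← D.zv.inv_right.eq, mul_assoc, inv_mul_cancel, mul_one]
  obtain ⟨a, b, c, d, e, f⟩ := quat (D.z_u 1).1 (D.z_u 2).1 (D.z_u 3).1 D.zz (show D.u 1 * D.u 1 = D.z from D.ii) hj hk D.ijk
  have h11 : D.u 1 * D.u 1 = D.z := D.ii
  have h0 : D.u 0 = 1 := rfl
  fin_cases p <;> fin_cases q <;> simp [qtab, sg, h0, h11, hj, hk, a, b, c, d, e, f]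

theorem u'_mul (p q : Fin 4) : D.u' p * D.u' q = D.sg (qtab p q).1 * D.u' (qtab p q).2 := by
  have hj : D.u' 2 * D.u' 2 = D.z := by
    show D.v * D.i' * D.v⁻¹ * (D.v * D.i' * D.v⁻¹) = D.z
    calc D.v * D.i' * D.v⁻¹ * (D.v * D.i' * D.v⁻¹) = D.v * (D.i' * D.i') * D.v⁻¹ := by group
      _ = D.z := by rw [D.ii', ← D.zv.eq, mul_inv_cancel_right]
  have hk : D.u' 3 * D.u' 3 = D.z := by
    show D.v⁻¹ * D.i' * D.v * (D.v⁻¹ * D.i' * D.v) = D.z
    calc D.v⁻¹ * D.i' * D.v * (D.v⁻¹ * D.i' * D.v) = D.v⁻¹ * (D.i' * D.i') * D.v := by group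
      _ = D.z := by rw [D.ii', ← D.zv.inv_right.eq, mul_assoc, inv_mul_cancel, mul_one]
  obtain ⟨a, b, c, d, e, f⟩ := quat (D.z_u 1).2 (D.z_u 2).2 (D.z_u 3).2 D.zz (show D.u' 1 * D.u' 1 = D.z from D.ii') hj hk D.ijk'
  have h11 : D.u' 1 * D.u' 1 = D.z := D.ii'
  have h0 : D.u' 0 = 1 := rfl
  fin_cases p <;> fin_cases q <;> simp [qtab, sg, h0, h11, hj, hk, a, b, c, d, e, f]

theorem eq_mul (x y : Q5) : D.eq x * D.eq y = D.eq (qmul x y) := by
  obtain ⟨a, p, r⟩ := x
  obtain ⟨b, q, s⟩ := y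
  have h1 : Commute (D.sg b) (D.u p * D.u' r) := D.sg_comm b ((D.z_u p).1.mul_right (D.z_u r).2)
  have h2 : Commute (D.sg (qtab r s).1) (D.u (qtab p q).2) := D.sg_comm _ (D.z_u _).1
  show D.sg a * (D.u p * D.u' r) * (D.sg b * (D.u q * D.u' s)) =
    D.sg ((a ^^ b) ^^ ((qtab p q).1 ^^ (qtab r s).1)) * (D.u (qtab p q).2 * D.u' (qtab r s).2)
  calc D.sg a * (D.u p * D.u' r) * (D.sg b * (D.u q * D.u' s))
      = D.sg a * (D.sg b * (D.u p * D.u' r)) * (D.u q * D.u' s) := by rw [h1.eq]; group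
    _ = D.sg (a ^^ b) * (D.u p * (D.u' r * D.u q) * D.u' s) := by rw [← D.sg_mul]; group
    _ = D.sg (a ^^ b) * ((D.u p * D.u q) * (D.u' r * D.u' s)) := by rw [← (D.u_u' q r).eq]; group
    _ = D.sg (a ^^ b) * ((D.sg (qtab p q).1 * D.u (qtab p q).2) *
          (D.sg (qtab r s).1 * D.u' (qtab r s).2)) := by rw [D.u_mul, D.u'_mul]
    _ = D.sg (a ^^ b) * (D.sg (qtab p q).1 * (D.u (qtab p q).2 * D.sg (qtab r s).1) * D.u' (qtab r s).2) := by group
    _ = _ := by rw [← h2.eq]; simp only [← D.sg_mul, mul_assoc]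

theorem v_eq (x : Q5) : D.v * D.eq x = D.eq (vq x) * D.v := by
  obtain ⟨a, p, r⟩ := x
  show D.v * (D.sg a * (D.u p * D.u' r)) = D.sg a * (D.u (rot p) * D.u' (rot r)) * D.v
  calc D.v * (D.sg a * (D.u p * D.u' r)) = D.v * D.sg a * D.u p * D.u' r := by group
    _ = D.sg a * (D.v * D.u p) * D.u' r := by rw [← (D.sg_comm a D.zv).eq]; group
    _ = D.sg a * D.u (rot p) * (D.v * D.u' r) := by rw [(D.v_u p).1]; group
    _ = _ := by rw [(D.v_u r).2]; group

theorem vpow_eq (n : ℕ) (x : Q5) : D.v ^ n * D.eq x = D.eq (vq^[n] x) * D.v ^ n := by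
  induction n generalizing x with
  | zero => simp
  | succ n ih =>
    calc D.v ^ (n + 1) * D.eq x = D.v ^ n * (D.v * D.eq x) := by rw [pow_succ]; group
      _ = (D.v ^ n * D.eq (vq x)) * D.v := by rw [D.v_eq]; group
      _ = D.eq (vq^[n + 1] x) * D.v ^ (n + 1) := by rw [ih, Function.iterate_succ_apply, pow_succ]; group

end Pre

namespace Gens

open Pre

variable {sw eps : Bool} {Γ : Type*} [Group Γ] (D : Gens sw eps Γ)

/-- the element -/
def ev (X : El) : Γ := D.eq X.1 * (D.v ^ X.2.1.val * cond X.2.2 D.t 1)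

theorem t_unit (p : Fin 4) :
    D.t * D.u p = D.sg (flipU p).1 * (if sw then D.u' (flipU p).2 else D.u (flipU p).2) * D.t ∧
    D.t * D.u' p = D.sg (flipU p).1 * (if sw then D.u (flipU p).2 else D.u' (flipU p).2) * D.t := by
  have tv' : D.t * D.v⁻¹ = D.v * D.t := by
    rw [mul_inv_eq_iff_eq_mul, mul_assoc, D.tvt, mul_inv_cancel_left]
  have key : ∀ a b : Γ, Commute D.z D.v → D.t * a = D.z * b * D.t →
      D.t * (D.v * a * D.v⁻¹) = D.z * (D.v⁻¹ * b * D.v) * D.t ∧
      D.t * (D.v⁻¹ * a * D.v) = D.z * (D.v * b * D.v⁻¹) * D.t := by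
    intro a b hz h
    constructor
    · calc D.t * (D.v * a * D.v⁻¹) = (D.t * D.v) * a * D.v⁻¹ := by group
        _ = D.v⁻¹ * (D.t * a) * D.v⁻¹ := by rw [D.tvt]; group
        _ = D.v⁻¹ * D.z * b * (D.t * D.v⁻¹) := by rw [h]; group
        _ = D.z * (D.v⁻¹ * b * D.v) * D.t := by rw [tv', ← hz.inv_right.eq]; group
    · calc D.t * (D.v⁻¹ * a * D.v) = (D.t * D.v⁻¹) * a * D.v := by group
        _ = D.v * (D.t * a) * D.v := by rw [tv']; group
        _ = D.v * D.z * b * (D.t * D.v) := by rw [h]; group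
        _ = D.z * (D.v * b * D.v⁻¹) * D.t := by rw [D.tvt, ← hz.eq]; group
  have k1 := key D.i _ D.zv D.ti
  have k2 := key D.i' _ D.zv D.ti'
  have t1 := D.ti
  have t2 := D.ti'
  cases sw <;> fin_cases p <;>
    simp only [u, u', flipU, sg, Matrix.cons_val_zero, Matrix.cons_val_one, Matrix.cons_val, cond_true, cond_false,
      Bool.false_eq_true, if_true, if_false, mul_one, one_mul, and_self, Fin.zero_eta, Fin.mk_one, Fin.reduceFinMk,
      Fin.isValue] at k1 k2 t1 t2 ⊢ <;>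
    first
      | trivial
      | exact ⟨t1, t2⟩
      | exact ⟨k1.1, k2.1⟩
      | exact ⟨k1.2, k2.2⟩

theorem t_eq (x : Q5) : D.t * D.eq x = D.eq (tq sw x) * D.t := by
  obtain ⟨a, p, r⟩ := x
  set a1 := (flipU p).1
  set a2 := (flipU r).1
  set U1 := (if sw then D.u' (flipU p).2 else D.u (flipU p).2) with hU1
  set U2 := (if sw then D.u (flipU r).2 else D.u' (flipU r).2) with hU2
  have hz : Commute D.z U1 := by
    rw [hU1]; split
    · exact (D.z_u _).2
    · exact (D.z_u _).1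
  have hU : U1 * U2 = D.u (if sw then (flipU r).2 else (flipU p).2) * D.u' (if sw then (flipU p).2 else (flipU r).2) := by
    rw [hU1, hU2]
    cases sw
    · simp
    · simpa using (D.u_u' (flipU r).2 (flipU p).2).symm.eq
  have t1 : D.t * D.u p = D.sg a1 * U1 * D.t := (D.t_unit p).1
  have t2 : D.t * D.u' r = D.sg a2 * U2 * D.t := (D.t_unit r).2
  show D.t * (D.sg a * (D.u p * D.u' r)) = D.sg (a ^^ (a1 ^^ a2)) *
    (D.u (if sw then (flipU r).2 else (flipU p).2) * D.u' (if sw then (flipU p).2 else (flipU r).2)) * D.t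
  calc D.t * (D.sg a * (D.u p * D.u' r)) = (D.t * D.sg a) * D.u p * D.u' r := by group
    _ = D.sg a * (D.t * D.u p) * D.u' r := by rw [← (D.sg_comm a D.zt).eq]; group
    _ = D.sg a * (D.sg a1 * U1) * (D.t * D.u' r) := by rw [t1]; group
    _ = D.sg a * D.sg a1 * (U1 * D.sg a2) * U2 * D.t := by rw [t2]; group
    _ = D.sg a * (D.sg a1 * D.sg a2) * (U1 * U2) * D.t := by rw [← (D.sg_comm a2 hz).eq]; group
    _ = _ := by rw [D.sg_mul, D.sg_mul, hU]

theorem vpow_mod (n : ℕ) : D.v ^ n = D.v ^ (n % 3) := by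
  conv_lhs => rw [← Nat.div_add_mod n 3, pow_add, pow_mul, show D.v ^ 3 = 1 from by rw [pow_three', D.v3], one_pow, one_mul]

theorem t_vpow (m : Fin 3) : D.t * D.v ^ m.val = D.v ^ (-m).val * D.t := by
  have h2 : D.v ^ 2 = D.v⁻¹ := by rw [sq]; exact eq_inv_of_mul_eq_one_left D.v3
  fin_cases m
  · simp
  · show D.t * D.v ^ 1 = D.v ^ 2 * D.t
    rw [pow_one, h2, D.tvt]
  · show D.t * D.v ^ 2 = D.v ^ 1 * D.t
    rw [pow_one, h2, mul_inv_eq_iff_eq_mul, mul_assoc, D.tvt, mul_inv_cancel_left]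

/-- The normal forms multiply as prescribed. -/
theorem ev_mul (X Y : El) : D.ev X * D.ev Y = D.ev (emul sw eps X Y) := by
  obtain ⟨x, m, l⟩ := X
  obtain ⟨y, m', l'⟩ := Y
  set y' := if l then tq sw y else y with hy'
  set n := if l then -m' else m' with hn
  have e1 : cond l D.t 1 * D.eq y * D.v ^ m'.val = D.eq y' * D.v ^ n.val * cond l D.t 1 := by
    cases l
    · simp [hy', hn]
    · simp only [cond_true, hy', hn, if_true]
      rw [D.t_eq, mul_assoc, D.t_vpow, ← mul_assoc]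
  have e2 : cond l D.t 1 * cond l' D.t 1 = D.sg (eps && l && l') * cond (l ^^ l') D.t 1 := by
    cases l <;> cases l'
    all_goals simp only [Bool.and_true, Bool.and_false, sg, cond_true, cond_false, Bool.bne_false, Bool.true_bne,
      Bool.false_bne, Bool.not_true, Bool.not_false, one_mul, mul_one]
    · rw [D.tt]
      cases eps <;> simp
  have hs : D.eq (eps && l && l', 0, 0) = D.sg (eps && l && l') := by simp [eq, u, u']
  have hv : D.v ^ (m + n).val = D.v ^ m.val * D.v ^ n.val := by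
    rw [← pow_add, D.vpow_mod (m.val + n.val), Fin.val_add]
  show D.eq x * (D.v ^ m.val * cond l D.t 1) * (D.eq y * (D.v ^ m'.val * cond l' D.t 1)) =
    D.eq (qmul (qmul x (vq^[m.val] y')) (eps && l && l', 0, 0)) * (D.v ^ (m + n).val * cond (l ^^ l') D.t 1)
  rw [← D.eq_mul, ← D.eq_mul, hs, hv]
  calc D.eq x * (D.v ^ m.val * cond l D.t 1) * (D.eq y * (D.v ^ m'.val * cond l' D.t 1))
      = D.eq x * (D.v ^ m.val * (cond l D.t 1 * D.eq y * D.v ^ m'.val)) * cond l' D.t 1 := by group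
    _ = D.eq x * (D.v ^ m.val * D.eq y') * D.v ^ n.val * (cond l D.t 1 * cond l' D.t 1) := by rw [e1]; group
    _ = D.eq x * D.eq (vq^[m.val] y') * (D.v ^ m.val * D.v ^ n.val * D.sg (eps && l && l')) * cond (l ^^ l') D.t 1 := by
        rw [D.vpow_eq, e2]; group
    _ = _ := by
        rw [← ((D.sg_comm _ D.zv).pow_right m.val |>.mul_right ((D.sg_comm _ D.zv).pow_right n.val)).eq]
        group

theorem ev_e1 : D.ev e1 = 1 := by simp [ev, eq, e1, sg, u, u']

theorem ev_ez : D.ev ez = D.z := by simp [ev, eq, ez, sg, u, u']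

theorem card_el : Nat.card El = 192 := by
  rw [Nat.card_eq_fintype_card]
  rfl

/-- The group is determined by the parameters. -/
theorem exists_equiv {Δ : Type*} [Group Δ] (E : Gens sw eps Δ) (hD : Function.Bijective D.ev)
    (hE : Function.Bijective E.ev) : ∃ φ : Γ ≃* Δ, φ D.z = E.z := by
  refine ⟨{ toEquiv := (Equiv.ofBijective _ hD).symm.trans (Equiv.ofBijective _ hE), map_mul' := fun a b => ?_ }, ?_⟩
  · obtain ⟨X, rfl⟩ := hD.2 a
    obtain ⟨Y, rfl⟩ := hD.2 b
    show E.ev ((Equiv.ofBijective _ hD).symm (D.ev X * D.ev Y)) =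
      E.ev ((Equiv.ofBijective _ hD).symm (D.ev X)) * E.ev ((Equiv.ofBijective _ hD).symm (D.ev Y))
    rw [D.ev_mul, Equiv.ofBijective_symm_apply_apply, Equiv.ofBijective_symm_apply_apply,
      Equiv.ofBijective_symm_apply_apply, E.ev_mul]
  · show E.ev ((Equiv.ofBijective _ hD).symm D.z) = E.z
    rw [← D.ev_ez, Equiv.ofBijective_symm_apply_apply, E.ev_ez]

end Gens

end Cfsg.Agent.MTwelve.CentShape
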